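import Mathlib.GroupTheory.PGroup
import Mathlib.GroupTheory.OrderOfElement
import Mathlib.GroupTheory.Coset.Card
import Mathlib.Data.Nat.ChineseRemainder
import Mathlib.Tactic.Group

/-!
Lemmas on finite groups: conjugation inside a coset by a free or coprime action, square roots in groups
of odd order, and a fixed point of an element of prime order on cosets.
-/

set_option autoImplicit false
set_option linter.unusedSectionVars false

namespace Cfsg.Agent.Lib.ReeGauss50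

variable {G : Type*} [Group G] [Finite G]

/-- An element acting freely on a subgroup is conjugate to all elements of its coset. -/
theorem conj_of_free (H : Subgroup G) {x : G} (hn : ∀ p ∈ H, x * p * x⁻¹ ∈ H)
    (hf : ∀ p ∈ H, Commute x p → p = 1) {v : G} (hv : v ∈ H) : ∃ p ∈ H, p * x * p⁻¹ = v * x := by
  let f : H → H := fun p => ⟨p.1 * (x * p.1⁻¹ * x⁻¹), mul_mem p.2 (hn _ (inv_mem p.2))⟩
  have hinj : Function.Injective f := by
    intro a b e
    have e' : a.1 * (x * a.1⁻¹ * x⁻¹) = b.1 * (x * b.1⁻¹ * x⁻¹) := congrArg Subtype.val e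
    have h : Commute x (b.1⁻¹ * a.1) := by
      show x * (b.1⁻¹ * a.1) = b.1⁻¹ * a.1 * x
      calc x * (b.1⁻¹ * a.1) = b.1⁻¹ * (b.1 * (x * b.1⁻¹ * x⁻¹)) * x * a.1 := by group
        _ = _ := by rw [← e']; group
    exact Subtype.ext (inv_mul_eq_one.1 (hf _ (mul_mem (inv_mem b.2) a.2) h)).symm
  obtain ⟨p, hp⟩ := Finite.injective_iff_surjective.1 hinj ⟨v, hv⟩
  refine ⟨p.1, p.2, ?_⟩
  have e : p.1 * (x * p.1⁻¹ * x⁻¹) = v := congrArg Subtype.val hp
  rw [← e]; group

/-- An element acting freely on a subgroup is conjugate to all elements of its left coset. -/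
theorem conj_of_free' (H : Subgroup G) {x : G} (hn : ∀ p ∈ H, x * p * x⁻¹ ∈ H)
    (hf : ∀ p ∈ H, Commute x p → p = 1) {v : G} (hv : v ∈ H) : ∃ p ∈ H, p * x * p⁻¹ = x * v := by
  obtain ⟨p, hp, e⟩ := conj_of_free H hn hf (hn v hv)
  exact ⟨p, hp, by rw [e]; group⟩

/-- In a coset of a normalised 2-subgroup by an element of odd order every element is conjugate to one
whose unipotent part commutes with the element. -/
theorem conj_centralized (U : Subgroup G) (hU : IsPGroup 2 U) {t : G} (ht : Odd (orderOf t))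
    (hn : ∀ u ∈ U, t⁻¹ * u * t ∈ U) {u : G} (hu : u ∈ U) :
    ∃ v ∈ U, ∃ c ∈ U, Commute t c ∧ v * (t * u) * v⁻¹ = t * c := by
  classical
  let Ct : Subgroup ↥U := (Subgroup.centralizer {t}).comap U.subtype
  have hCt : ∀ c : ↥U, c ∈ Ct ↔ Commute t c.1 := fun c =>
    Subgroup.mem_centralizer_singleton_iff.trans ⟨fun h => h.symm, fun h => h.symm⟩
  obtain ⟨k, hk⟩ := hU.exists_card_eq
  have hcop : Nat.Coprime (orderOf t) (2 ^ k) :=
    Nat.Coprime.pow_right _ (Nat.coprime_two_right.2 ht)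
  obtain ⟨N, hN1, hN2⟩ := Nat.chineseRemainder hcop 1 0
  have hN : ∀ c ∈ U, Commute t c → (t * c) ^ N = t := by
    intro c hc h
    have h2 : orderOf c ∣ 2 ^ k := by
      rw [← hk, ← Subgroup.orderOf_mk c hc]
      exact orderOf_dvd_natCard _
    rw [h.mul_pow, orderOf_dvd_iff_pow_eq_one.1 (h2.trans (Nat.modEq_zero_iff_dvd.1 hN2)), mul_one]
    conv_rhs => rw [← pow_one t]
    exact pow_eq_pow_iff_modEq.2 hN1
  let f : (↥U ⧸ Ct) × ↥Ct → ↥U := fun p =>
    ⟨t⁻¹ * p.1.out.1 * t * p.2.1.1 * p.1.out.1⁻¹,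
      mul_mem (mul_mem (hn _ p.1.out.2) p.2.1.2) (inv_mem p.1.out.2)⟩
  have hinj : Function.Injective f := by
    rintro ⟨a, c⟩ ⟨b, d⟩ h
    have e : t⁻¹ * a.out.1 * t * c.1.1 * a.out.1⁻¹ = t⁻¹ * b.out.1 * t * d.1.1 * b.out.1⁻¹ :=
      congrArg Subtype.val h
    set w := b.out.1⁻¹ * a.out.1 with hw
    have e1 : w * (t * c.1.1) * w⁻¹ = t * d.1.1 := by
      calc w * (t * c.1.1) * w⁻¹
          = b.out.1⁻¹ * t * (t⁻¹ * a.out.1 * t * c.1.1 * a.out.1⁻¹) * b.out.1 := by simp only [w]; group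
        _ = _ := by rw [e]; group
    have e2 := congrArg (fun z => z ^ N) e1
    simp only [conj_pow] at e2
    rw [hN _ c.1.2 ((hCt _).1 c.2), hN _ d.1.2 ((hCt _).1 d.2), mul_inv_eq_iff_eq_mul] at e2
    have hab : a = b := by
      rw [← QuotientGroup.out_eq' a, ← QuotientGroup.out_eq' b, eq_comm, QuotientGroup.eq]
      exact (hCt _).2 e2.symm
    subst hab
    exact Prod.ext rfl (Subtype.ext (Subtype.ext (mul_left_cancel (mul_right_cancel e))))
  have hbij := hinj.bijective_of_nat_card_le (le_of_eq (by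
    rw [Nat.card_prod, ← Subgroup.card_eq_card_quotient_mul_card_subgroup]))
  obtain ⟨⟨a, c⟩, h⟩ := hbij.2 ⟨u, hu⟩
  have e : t⁻¹ * a.out.1 * t * c.1.1 * a.out.1⁻¹ = u := congrArg Subtype.val h
  exact ⟨a.out.1⁻¹, inv_mem a.out.2, c.1.1, c.1.2, (hCt _).1 c.2, by rw [← e]; group⟩

/-- In a subgroup of odd order every element is a square of one of its powers. -/
theorem sq_root {H : Subgroup G} (hH : Odd (Nat.card H)) {h : G} (hh : h ∈ H) :
    (h ^ ((Nat.card H + 1) / 2)) * (h ^ ((Nat.card H + 1) / 2)) = h := by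
  have h1 : h ^ Nat.card H = 1 := orderOf_dvd_iff_pow_eq_one.1 <| by
    rw [← Subgroup.orderOf_mk h hh]
    exact orderOf_dvd_natCard _
  obtain ⟨r, hr⟩ := hH
  rw [hr] at h1 ⊢
  rw [show (2 * r + 1 + 1) / 2 = r + 1 by omega, ← pow_add, show r + 1 + (r + 1) = (2 * r + 1) + 1 by ring,
    pow_succ, h1, one_mul]

/-- An element of prime order has a fixed coset when the index is prime to its order. -/
theorem exists_conj_mem {B : Subgroup G} {p : ℕ} [Fact p.Prime] {w : G} (hw : orderOf w = p) {L : Subgroup G}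
    (hBL : B ≤ L) (hwL : w ∈ L) (hidx : ¬ p ∣ Nat.card (↥L ⧸ B.subgroupOf L)) :
    ∃ k ∈ L, k⁻¹ * w * k ∈ B := by
  let P : Subgroup ↥L := Subgroup.zpowers ⟨w, hwL⟩
  have hP : IsPGroup p P := IsPGroup.of_card (n := 1) (by rw [Nat.card_zpowers, Subgroup.orderOf_mk, hw, pow_one])
  obtain ⟨c, hc⟩ := hP.nonempty_fixed_point_of_prime_not_dvd_card (↥L ⧸ B.subgroupOf L) hidx
  induction c using QuotientGroup.induction_on with
  | H k =>
    refine ⟨k.1, k.2, ?_⟩
    have h : (((⟨w, hwL⟩ : ↥L) * k : ↥L) : ↥L ⧸ B.subgroupOf L) = (k : ↥L ⧸ B.subgroupOf L) :=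
      hc ⟨⟨w, hwL⟩, Subgroup.mem_zpowers _⟩
    rw [eq_comm, QuotientGroup.eq, Subgroup.mem_subgroupOf] at h
    simpa [mul_assoc] using h

end Cfsg.Agent.Lib.ReeGauss50
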