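import Cfsg.Agent.Lib.ReeGauss50.Gauss

/-!
From the decomposition `V U` to products of two conjugates of an element of odd order in a Levi
subgroup.
-/

set_option autoImplicit false
set_option linter.unusedSectionVars false

namespace Cfsg.Agent.Lib.ReeGauss50.Setup

variable {G : Type*} [Group G] (S : Setup G)

/-- The additional data: an opposition element and an element of order five of the second rank one
group, covering it with two conjugates. -/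
structure Extra where
  o : G
  y₀ : G
  o_T : ∀ h ∈ S.T, o⁻¹ * h * o ∈ S.T
  o_L : ∀ k ∈ S.L 1, o⁻¹ * k * o ∈ S.L 1
  o_V : ∀ v ∈ S.V, o⁻¹ * v * o ∈ S.U
  y₀_L : y₀ ∈ S.L 1
  y₀_pow : y₀ ^ 5 = 1
  five : ¬ 5 ∣ S.N0
  real : ∃ k ∈ S.L 1, k * y₀ * k⁻¹ = y₀⁻¹
  cover : ∀ M ∈ S.L 1, M ≠ 1 →
    ∃ k ∈ S.L 1, ∃ k' ∈ S.L 1, M = (k * y₀ * k⁻¹) * (k' * y₀ * k'⁻¹)

variable [Finite G]

theorem two_conj (E : S.Extra) :
    ∃ x : G, Odd (orderOf x) ∧ ∀ g : G, ∃ u v : G, g = (u * x * u⁻¹) * (v * x * v⁻¹) := by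
  obtain ⟨z, hz, hz1⟩ : ∃ z ∈ S.ZZ 1, z ≠ 1 := by
    by_contra hall
    simp only [not_exists, not_and, not_not] at hall
    have : Subsingleton ↥(S.ZZ 1) := ⟨fun a b => Subtype.ext ((hall a.1 a.2).trans (hall b.1 b.2).symm)⟩
    have h1 := (S.card_ZZ 1).1
    rw [Nat.card_of_subsingleton (1 : ↥(S.ZZ 1))] at h1
    exact S.N0_gt.ne h1
  have hzT : z ∈ S.T := ((S.mem_ZZ 1).1 hz).1
  have hzn : Commute (S.n 1) z := ((S.mem_ZZ 1).1 hz).2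
  have hcz : ∀ k ∈ S.L 1, Commute z k := fun k hk => S.ZZ_comm_L 1 hz hk
  refine ⟨E.y₀ * z, ?_, fun g => ?_⟩
  · refine (S.T_odd.mul (show Odd 5 by decide)).of_dvd_nat (orderOf_dvd_of_pow_eq_one ?_)
    rw [((hcz _ E.y₀_L).symm).mul_pow, mul_comm, pow_mul, E.y₀_pow, one_pow, one_mul, mul_comm, pow_mul,
      show z ^ Nat.card S.T = 1 from orderOf_dvd_iff_pow_eq_one.1
        (by rw [← Subgroup.orderOf_mk z hzT]; exact orderOf_dvd_natCard _), one_pow]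
  -- the middle element
  obtain ⟨k, v, hv, u, hu, e⟩ := S.good_all g
  obtain ⟨x₁, hx₁, q₁, hq₁, e₁⟩ := S.split 1 (E.o⁻¹ * v * E.o)⁻¹ (inv_mem (E.o_V v hv))
  obtain ⟨x₂, hx₂, q₂, hq₂, e₂⟩ := S.split 1 u hu
  have hself : ∀ l ∈ S.L 1, ∃ l₀ ∈ S.L 1, E.o⁻¹ * l₀ * E.o = l := by
    intro l hl
    let f : ↥(S.L 1) → ↥(S.L 1) := fun a => ⟨_, E.o_L a.1 a.2⟩
    have hf : Function.Injective f := fun a b h =>
      Subtype.ext (mul_left_cancel (mul_right_cancel (congrArg Subtype.val h)))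
    obtain ⟨a, ha⟩ := Finite.injective_iff_surjective.1 hf ⟨l, hl⟩
    exact ⟨a.1, a.2, congrArg Subtype.val ha⟩
  set Qn : Subgroup G := (S.Q 1).map (MulAut.conj E.o).toMonoidHom
  set y := E.o * x₁⁻¹ * E.o⁻¹
  have hy : y ∈ S.L 1 := by
    obtain ⟨a, ha, ea⟩ := hself x₁⁻¹ (inv_mem (S.X_L 1 hx₁))
    rwa [show y = a by simp only [y]; rw [← ea]; group]
  set M := y * x₂
  have hM : M ∈ S.L 1 := mul_mem hy (S.X_L 1 hx₂)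
  set v' := E.o * q₁⁻¹ * E.o⁻¹
  have hv' : v' ∈ Qn := ⟨q₁⁻¹, inv_mem hq₁, rfl⟩
  have ev : v = v' * y := by
    have h3 : E.o⁻¹ * v * E.o = q₁⁻¹ * x₁⁻¹ := by rw [← mul_inv_rev, ← e₁, inv_inv]
    calc v = E.o * (E.o⁻¹ * v * E.o) * E.o⁻¹ := by group
      _ = _ := by rw [h3]; simp only [v', y]; group
  -- the middle is a product of two conjugates
  obtain ⟨k₁, hk₁, k₂, hk₂, eM⟩ : ∃ k₁ ∈ S.L 1, ∃ k₂ ∈ S.L 1,
      M = (k₁ * E.y₀ * k₁⁻¹) * (k₂ * E.y₀ * k₂⁻¹) := by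
    by_cases h1 : M = 1
    · obtain ⟨r, hr, er⟩ := E.real
      exact ⟨1, one_mem _, r, hr, by rw [h1, er]; simp⟩
    · exact E.cover M hM h1
  set c₁ := k₁ * E.y₀ * k₁⁻¹
  set c₂ := k₂ * E.y₀ * k₂⁻¹
  have hc : ∀ j ∈ S.L 1, j * E.y₀ * j⁻¹ ∈ S.L 1 ∧ (j * E.y₀ * j⁻¹) ^ 5 = 1 := fun j hj =>
    ⟨mul_mem (mul_mem hj E.y₀_L) (inv_mem hj), by rw [conj_pow, E.y₀_pow, mul_one, mul_inv_cancel]⟩
  -- an element commuting with c z commutes with a non-trivial fixed torus element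
  have hfifth : ∀ j ∈ S.L 1, ∀ z' ∈ S.ZZ 1, z' ≠ 1 → ∀ p, Commute (j * E.y₀ * j⁻¹ * z') p →
      z' ^ 5 ≠ 1 ∧ Commute (z' ^ 5) p := by
    intro j hj z' hz' hne p hp
    have hp5 := hp.pow_left 5
    rw [(S.ZZ_comm_L 1 hz' (hc j hj).1).symm.mul_pow, (hc j hj).2, one_mul] at hp5
    refine ⟨fun h5 => ?_, hp5⟩
    haveI : Fact (Nat.Prime 5) := ⟨by decide⟩
    have := orderOf_eq_prime h5 hne
    refine E.five ?_
    rw [← (S.card_ZZ 1).1, ← this, ← Subgroup.orderOf_mk z' hz']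
    exact orderOf_dvd_natCard _
  have hQnL : ∀ l ∈ S.L 1, ∀ w ∈ Qn, l * w * l⁻¹ ∈ Qn := by
    rintro l hl _ ⟨q, hq, rfl⟩
    refine ⟨_, S.L_Q 1 _ (E.o_L l hl) q hq, ?_⟩
    show E.o * _ * E.o⁻¹ = l * (E.o * q * E.o⁻¹) * l⁻¹
    group
  have hQnT : ∀ t ∈ S.T, ∀ w ∈ Qn, t * w * t⁻¹ ∈ Qn := by
    rintro t ht _ ⟨q, hq, rfl⟩
    refine ⟨_, S.T_Q 1 _ (E.o_T t ht) q hq, ?_⟩
    show E.o * _ * E.o⁻¹ = t * (E.o * q * E.o⁻¹) * t⁻¹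
    group
  -- the first factor
  obtain ⟨p₁, -, ep₁⟩ : ∃ p ∈ Qn, p * (c₁ * z) * p⁻¹ = v' * (c₁ * z) := by
    refine conj_of_free Qn (fun w hw => ?_) (fun w hw hcw => ?_) hv'
    · rw [show c₁ * z * w * (c₁ * z)⁻¹ = c₁ * (z * w * z⁻¹) * c₁⁻¹ by group]
      exact hQnL _ (hc k₁ hk₁).1 _ (hQnT z hzT w hw)
    · obtain ⟨hne, h5⟩ := hfifth k₁ hk₁ z hz hz1 w hcw
      obtain ⟨q, hq, rfl⟩ := hw
      have hz5 := hzn.pow_right 5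
      obtain ⟨a, ha, ea⟩ := hself (S.n 1) (S.n_L 1)
      have h6 : Commute (E.o⁻¹ * z ^ 5 * E.o) q := by
        have := h5.map (MulAut.conj E.o⁻¹).toMonoidHom
        simpa [mul_assoc] using this
      have h7 : Commute (S.n 1) (E.o⁻¹ * z ^ 5 * E.o) := by
        have h := ((hcz a ha).pow_left 5).map (MulAut.conj E.o⁻¹).toMonoidHom
        rw [← ea]
        simpa using h.symm
      have hq1 := S.freeQ 1 _ (E.o_T _ (pow_mem hzT 5))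
        (fun h => hne (by simpa using conj_eq_one_iff.1 (show E.o⁻¹ * z ^ 5 * E.o⁻¹⁻¹ = 1 by rwa [inv_inv])))
        h7 q hq h6
      rw [hq1, map_one]
  -- the second factor
  obtain ⟨p₂, -, ep₂⟩ : ∃ p ∈ S.Q 1, p * (c₂ * z⁻¹) * p⁻¹ = c₂ * z⁻¹ * q₂ := by
    refine conj_of_free' (S.Q 1) (fun w hw => ?_) (fun w hw hcw => ?_) hq₂
    · rw [show c₂ * z⁻¹ * w * (c₂ * z⁻¹)⁻¹ = c₂ * (z⁻¹ * w * z⁻¹⁻¹) * c₂⁻¹ by group]
      exact S.L_Q 1 _ (hc k₂ hk₂).1 _ (S.T_Q 1 _ (inv_mem hzT) w hw)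
    · obtain ⟨hne, h5⟩ := hfifth k₂ hk₂ z⁻¹ (inv_mem hz) (inv_ne_one.2 hz1) w hcw
      exact S.freeQ 1 _ (pow_mem (inv_mem hzT) 5) hne (hzn.inv_right.pow_right 5) w hw h5
  -- the inverse of the torus part
  obtain ⟨s, hs, es⟩ := S.ZZ_eq_conj 1 hz
  set δ := S.w 1 * S.n 1 * (S.w 1)⁻¹
  have hδy : Commute δ E.y₀ := S.w_comm 1 _ (S.n_L 1) _ E.y₀_L
  have hδz : δ * z * δ⁻¹ = z⁻¹ := by
    rw [es, show δ * (S.w 1 * s * (S.w 1)⁻¹) * δ⁻¹ = S.w 1 * (S.n 1 * s * (S.n 1)⁻¹) * (S.w 1)⁻¹ by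
      simp only [δ]; group, hs.2]
    group
  have h₁ : k₁ * (E.y₀ * z) * k₁⁻¹ = c₁ * z := by
    rw [show k₁ * (E.y₀ * z) * k₁⁻¹ = k₁ * E.y₀ * (z * k₁⁻¹) by group, (hcz _ (inv_mem hk₁)).eq]
    simp only [c₁]
    group
  have h₂ : (k₂ * δ) * (E.y₀ * z) * (k₂ * δ)⁻¹ = c₂ * z⁻¹ := by
    rw [show (k₂ * δ) * (E.y₀ * z) * (k₂ * δ)⁻¹ = k₂ * (δ * E.y₀ * δ⁻¹) * ((δ * z * δ⁻¹) * k₂⁻¹) by group,
      hδy.eq, mul_inv_cancel_right, hδz, ((hcz _ (inv_mem hk₂)).inv_left).eq]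
    simp only [c₂]
    group
  refine ⟨k⁻¹ * p₁ * k₁, k⁻¹ * p₂ * (k₂ * δ), ?_⟩
  calc g = k⁻¹ * (v * u) * k := by rw [← e]; group
    _ = k⁻¹ * (v' * (y * x₂) * q₂) * k := by rw [ev, e₂]; group
    _ = k⁻¹ * ((v' * (c₁ * z)) * (c₂ * z⁻¹ * q₂)) * k := by
        rw [show y * x₂ = c₁ * c₂ from eM,
          show (v' * (c₁ * z)) * (c₂ * z⁻¹ * q₂) = v' * c₁ * (z * c₂) * z⁻¹ * q₂ by group,
          (hcz _ (hc k₂ hk₂).1).eq]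
        simp only [c₂]
        group
    _ = _ := by rw [← ep₁, ← ep₂, ← h₁, ← h₂]; group

end Cfsg.Agent.Lib.ReeGauss50.Setup
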