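import Cfsg.Agent.Lib.ReeGauss50.Levi
import Cfsg.Agent.Lib.ReeGauss50.Product
import Cfsg.Agent.Lib.D4Gauss.FlagTrace
import Cfsg.Agent.Lib.LieTwisted.Twist.TwRankOne
import Cfsg.Agent.Lib.LieTwisted.Twist.RankTwoCent
import Cfsg.Agent.Lib.SzChars.Cover

/-!
The rank two data of ²F₄(q), q ≥ 8, and the resulting products of two conjugates.
-/

set_option autoImplicit false
set_option maxRecDepth 100000
set_option linter.unusedSectionVars false

namespace Cfsg.Agent.Lib.ReeGauss50.Concrete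

open Cfsg.Lie
open Cfsg.Agent.Lib.ChevStructure Cfsg.Agent.Lib.LieTwisted.Twist Cfsg.Agent.Lib.LieTwisted.Twist.F4
open Cfsg.Agent.Lib.TwMult Cfsg.Agent.Lib.TwMult.F4
open Cfsg.Agent.Lib.LieTwisted Cfsg.Agent.Lib.LieTwisted.Suzuki
open Cfsg.Agent.Lib.D4Gauss
open scoped MatrixGroups Matrix

universe u

theorem five_aux : ∀ m : ℕ, 2 ^ (2 * m + 1) % 5 = 2 ∨ 2 ^ (2 * m + 1) % 5 = 3
  | 0 => Or.inl rfl
  | m + 1 => by
    rw [show 2 ^ (2 * (m + 1) + 1) = 4 * 2 ^ (2 * m + 1) by ring]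
    rcases five_aux m with h | h <;> omega

variable {K : Type u} [Field K] [Fintype K] {θ : K ≃+* K} {e : ℕ} (F : Th θ e)
variable {m : ℕ} (hm : 1 ≤ m) (hS : IsSzField K m) (hsg : ∀ x : K, sg m x = θ x ^ 2)

include hS in
theorem charTwo : CharP K 2 :=
  haveI : Fact (Nat.Prime 2) := ⟨Nat.prime_two⟩
  charP_of_card_eq_prime_pow hS.card

include F in
theorem card_XX (i : Fin 2) : ∃ k, Nat.card ↥(XX F i) = Fintype.card K ^ k :=
  ⟨_, (tw F).card_Xp (oN F i)⟩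

include F hS in
theorem panelOK : haveI : Fact (Nat.Prime 2) := ⟨Nat.prime_two⟩; FlagTrace.PanelOK ((tw F).bnPair (hq F)) 2 := by
  classical
  haveI : Fact (Nat.Prime 2) := ⟨Nat.prime_two⟩
  let T := tw F
  let P := T.bnPair (hq F)
  intro s hs
  obtain ⟨i, rfl⟩ : ∃ i : Fin T.nn, T.nS i = s := hs
  have hsq : T.nS i * T.nS i ∈ T.B1 := P.sq_mem _ ⟨i, rfl⟩
  have hmem : ∀ u ∈ T.Xp i, (((u * T.nS i : ↥T.W) : FlagTrace.Flag P)).out ∈ BNPair.Basic.cell P (T.nS i) := by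
    intro u hu
    obtain ⟨b, hb⟩ := QuotientGroup.mk_out_eq_mul P.B (u * T.nS i)
    rw [hb]
    exact BNPair.Basic.mem_cell_iff.2 ⟨u, T.Xp_le_B1 i hu, b.1, b.2, rfl⟩
  let f : ↥(T.Xp i) → {c : FlagTrace.Flag P // c.out ∈ BNPair.Basic.cell P (T.nS i)} := fun u =>
    ⟨_, hmem u.1 u.2⟩
  have hinj : Function.Injective f := by
    intro u u' h
    have e' : ((u.1 * T.nS i : ↥T.W) : FlagTrace.Flag P) = ((u'.1 * T.nS i : ↥T.W) : FlagTrace.Flag P) :=
      congrArg Subtype.val h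
    have h1 : (u.1 * T.nS i)⁻¹ * (u'.1 * T.nS i) ∈ T.B1 := QuotientGroup.eq.1 e'
    have h2 : T.nS i * (u.1⁻¹ * u'.1) * (T.nS i)⁻¹ ∈ T.B1 := by
      have h3 := mul_mem (mul_mem hsq h1) (inv_mem hsq)
      rw [show T.nS i * (u.1⁻¹ * u'.1) * (T.nS i)⁻¹ =
        T.nS i * T.nS i * ((u.1 * T.nS i)⁻¹ * (u'.1 * T.nS i)) * (T.nS i * T.nS i)⁻¹ by group]
      exact h3
    have h4 : T.nS i * (u.1⁻¹ * u'.1) * (T.nS i)⁻¹ ∈ T.Xn i := by
      rw [← T.map_Xp]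
      exact ⟨_, mul_mem (inv_mem u.2) u'.2, rfl⟩
    have h5 := T.eq_one_of_B1_V1 h2 (T.Xn_le_V1 i h4)
    rw [conj_eq_one_iff, inv_mul_eq_one] at h5
    exact Subtype.ext h5
  have hsurj : Function.Surjective f := by
    rintro ⟨c, hc⟩
    have hQ : c.out ∈ T.Qm (hq F) i := FlagTrace.cell_le_parabolic (P := P) ⟨i, rfl⟩ hc
    rcases T.Qm_cases (hq F) i (inv_mem hQ) with h | ⟨b, hb, u, hu, h⟩
    · exfalso
      obtain ⟨x, hx, y, hy, e'⟩ := BNPair.Basic.mem_cell_iff.1 hc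
      refine BNPair.Basic.not_mem_B (P := P) ⟨i, rfl⟩ ?_
      rw [show T.nS i = x⁻¹ * c.out * y⁻¹ by rw [e']; group]
      exact P.B.mul_mem (P.B.mul_mem (P.B.inv_mem hx) (by simpa using P.B.inv_mem h)) (P.B.inv_mem hy)
    refine ⟨⟨u⁻¹, inv_mem hu⟩, Subtype.ext ?_⟩
    show ((u⁻¹ * T.nS i : ↥T.W) : FlagTrace.Flag P) = c
    rw [← QuotientGroup.out_eq' c, QuotientGroup.eq, ← inv_inv c.out, h,
      show (u⁻¹ * T.nS i)⁻¹ * (b * T.nS i * u)⁻¹ = (T.nS i * T.nS i)⁻¹ * b⁻¹ by group]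
    exact mul_mem (inv_mem hsq) (inv_mem hb)
  refine (congrArg (Nat.cast : ℕ → ZMod 2) (Nat.card_congr (Equiv.ofBijective f ⟨hinj, hsurj⟩)).symm).trans ?_
  rw [T.card_Xp, ZMod.natCast_eq_zero_iff]
  refine dvd_pow ?_ ?_
  · show 2 ∣ Fintype.card K
    rw [hS.card]
    exact dvd_pow_self 2 (Nat.succ_ne_zero _)
  · exact (Nat.div_pos (Nat.le_of_dvd (T.len_wO_pos i) (T.base_dvd i)) (by decide : 0 < 2)).ne'

include F hS in
theorem cells' (g : ↥(tw F).W) : ∃ k p₀ p₁ : ↥(tw F).W, k * g * k⁻¹ = p₀ * p₁ ∧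
    ((∃ t ∈ tor (tw F), ∃ u ∈ uS (tw F) C.Pos, p₀ = t * u) ∨
      (∃ t ∈ tor (tw F), ∃ u ∈ uS (tw F) C.Pos, ∃ t' ∈ tor (tw F), ∃ u' ∈ uS (tw F) C.Pos,
        p₀ = t * u * nn F 0 * (t' * u'))) ∧
    ((∃ t ∈ tor (tw F), ∃ u ∈ uS (tw F) C.Pos, p₁ = t * u) ∨
      (∃ t ∈ tor (tw F), ∃ u ∈ uS (tw F) C.Pos, ∃ t' ∈ tor (tw F), ∃ u' ∈ uS (tw F) C.Pos,
        p₁ = t * u * nn F 1 * (t' * u'))) := by
  haveI : Fact (Nat.Prime 2) := ⟨Nat.prime_two⟩
  have hB : ∀ b ∈ (tw F).B1, ∃ t ∈ tor (tw F), ∃ u ∈ uS (tw F) C.Pos, b = t * u := fun b hb => by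
    obtain ⟨v, hv, h, hh, rfl⟩ := exists_borel_dec (tw F) hb
    refine ⟨h, hh, h⁻¹ * v * h, ?_, by group⟩
    have h1 := tor_conj_uS (tw F) C.Pos h⁻¹ (inv_mem hh) v hv
    rwa [inv_inv] at h1
  have hP : ∀ i : Fin 2, ∀ p ∈ ((tw F).bnPair (hq F)).parabolic {nn F i},
      (∃ t ∈ tor (tw F), ∃ u ∈ uS (tw F) C.Pos, p = t * u) ∨
      (∃ t ∈ tor (tw F), ∃ u ∈ uS (tw F) C.Pos, ∃ t' ∈ tor (tw F), ∃ u' ∈ uS (tw F) C.Pos,
        p = t * u * nn F i * (t' * u')) := fun i p hp => by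
    rcases (tw F).Qm_cases (hq F) (oN F i) hp with h | ⟨b, hb, x, hx, rfl⟩
    · exact Or.inl (hB p h)
    · obtain ⟨t, ht, u, hu, rfl⟩ := hB b hb
      exact Or.inr ⟨t, ht, u, hu, 1, one_mem _, x, uO_le (tw F) _ hx, by rw [one_mul]⟩
  have hSS : ((tw F).bnPair (hq F)).S = {nn F 0, nn F 1} := by
    ext z
    constructor
    · rintro ⟨i, rfl⟩
      obtain rfl | rfl : i = oN F 0 ∨ i = oN F 1 := by
        have key : ∀ i : Fin 2, i = 0 ∨ i = 1 := by decide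
        exact key i
      · exact Or.inl rfl
      · exact Or.inr rfl
    · rintro (rfl | rfl) <;> exact ⟨_, rfl⟩
  obtain ⟨k, p₁, h₁, p₂, h₂, h⟩ := FlagTrace.exists_conj_par (panelOK F hS) hSS g
  exact ⟨k, p₁, p₂, h, hP 0 p₁ h₁, hP 1 p₂ h₂⟩

include F hm hS hsg in
theorem L_T_fix' (i : Fin 2) {h : ↥(tw F).W} (hh : h ∈ tor (tw F)) (hL : h ∈ LL F i)
    (hc : Commute (nn F i) h) : h = 1 := by
  haveI := F.two
  obtain ⟨x, y, hx⟩ := torus_param F hh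
  have hfix := fixes_of_commute_n F hh hc
  suffices key : x = 1 ∧ y = 1 by
    refine Subtype.ext ?_
    rw [hx, key.1, key.2]
    exact hχ_one' F
  fin_cases i
  · obtain ⟨g, hg⟩ : h0 F ⟨h, hL⟩ ∈ (Matrix.SpecialLinearGroup.toGL : SL(2, K) →* GL (Fin 2) K).range :=
      h0_range F ▸ ⟨_, rfl⟩
    have d0 : θ (x : K) * θ (y : K) * θ (y : K) = 1 := by
      have h1 : bl TwMult.F4.V0 (h : GL chevF4.Idx K) = (g : Matrix (Fin 2) (Fin 2) K) := by
        rw [← h0_val F ⟨h, hL⟩, ← hg]; rfl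
      have := g.2
      rw [← h1, hx, bl0_torus F] at this
      simpa [Matrix.det_fin_two, mul_assoc] using this
    have h24 := congrArg Units.val ((fixes_iff F hx (R 24)).1 (hfix _ (by decide +kernel)))
    rw [chr_χOf x y (R 24) 0 0 0 1 (by decide +kernel)] at h24
    simp only [zpow_zero, one_mul, zpow_one, Units.val_one] at h24
    rw [h24, map_one, one_mul, ← sq, ← map_pow, ← map_one θ] at d0
    refine ⟨Units.ext h24, Units.ext (CharTwo.sq_inj.1 ?_)⟩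
    rw [Units.val_one, one_pow]
    exact θ.injective d0
  · obtain ⟨g, hg⟩ : h1 F ⟨h, hL⟩ ∈ ((Matrix.SpecialLinearGroup.toGL : SL(4, K) →* GL (Fin 4) K).comp
        (Cfsg.Sz K m).subtype).range := h1_range F hm hS hsg ▸ ⟨_, rfl⟩
    have h1' : bl TwMult.F4.V1 (h : GL chevF4.Idx K) = ((g : SL(4, K)) : Matrix (Fin 4) (Fin 4) K) := by
      rw [← h1_val F ⟨h, hL⟩, ← hg]; rfl
    have hd := (g : SL(4, K)).2
    rw [← h1', hx, bl1_torus F] at hd
    have h27 := congrArg Units.val ((fixes_iff F hx (R 27)).1 (hfix _ (by decide +kernel)))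
    rw [chr_χOf x y (R 27) 0 1 0 0 (by decide +kernel)] at h27
    simp only [zpow_zero, one_mul, mul_one, zpow_one, Units.val_one] at h27
    have hy : (y : K) = 1 := θ.injective (by rw [h27, map_one])
    rw [hy, map_one] at hd
    have e4 : θ (x : K) ^ 4 = 1 := by
      rw [← hd, Matrix.det_of_upperTriangular (fun a b hab => by
        fin_cases a <;> fin_cases b <;> first | rfl | (simp at hab))]
      simp [Fin.prod_univ_four]
      ring
    refine ⟨Units.ext (θ.injective (CharTwo.sq_inj.1 (CharTwo.sq_inj.1 ?_))), Units.ext hy⟩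
    rw [← pow_mul, Units.val_one, map_one, one_pow, one_pow]
    exact e4

include hm hS hsg in
/-- The data of rank two. -/
noncomputable def setup : Setup ↥(tw F).W where
  U := uS (tw F) C.Pos
  V := uS (tw F) C.Neg
  T := tor (tw F)
  X := XX F
  Y := YY F
  Q := QQ F
  L := LL F
  n := nn F
  w := ww F
  N0 := Fintype.card K - 1
  N0_gt := by have := hS.two_lt_card hm; omega
  U_pgroup := by
    haveI : Fact (Nat.Prime 2) := ⟨Nat.prime_two⟩
    haveI := charTwo hS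
    exact ((tw F).U1_sylow (hq F) (p := 2) (f := 2 * m + 1) hS.card).1
  T_comm := tor_comm (tw F)
  T_odd := by
    rw [card_tor F]
    have he : Even (Fintype.card K) := by
      rw [hS.card]
      exact even_two.pow_of_ne_zero (Nat.succ_ne_zero _)
    have h : Odd (Fintype.card K - 1) := Nat.Even.sub_odd Fintype.card_pos he odd_one
    exact h.mul h
  T_card := card_tor F
  T_U := tor_conj_uS (tw F) _
  T_X i := tor_conj_uS (tw F) _
  T_Y i := tor_conj_uS (tw F) _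
  T_Q i := tor_conj_uS (tw F) _
  BV t ht u hu hV := by
    have hB : t * u ∈ (tw F).B1 := mul_mem ((tw F).H1_le_B1 ((tw F).mem_H1.2 ((mem_tor (tw F)).1 ht)))
      ((tw F).U1_le_B1 hu)
    have h1 : t * u = 1 := (tw F).eq_one_of_B1_V1 hB hV
    have h2 : (u : GL chevF4.Idx K) ∈ C.US K C.Pos ⊓ chevF4.diagonalSubgroup K := by
      refine Subgroup.mem_inf.2 ⟨(mem_uS (tw F)).1 hu, ?_⟩
      rw [show u = t⁻¹ from eq_inv_of_mul_eq_one_right h1]
      exact (mem_tor (tw F)).1 (inv_mem ht)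
    rw [C.US_inf_diagonal, Subgroup.mem_bot] at h2
    have h3 : u = 1 := Subtype.ext h2
    exact ⟨by rwa [h3, mul_one] at h1, h3⟩
  X_U i := uO_le (tw F) _
  Y_V i y hy := (mem_uS (tw F)).2 (C.US_mono K (fun r (hr : r.rev ∈ Jr i) => by
    have h := Jr_pos i _ hr
    have h' := C.rev_pos (r := r)
    by_contra hn
    rw [C.neg_iff_not_pos, not_not] at hn
    exact (C.neg_iff_not_pos _).1 (C.rev_neg hn) h) ((mem_uS (tw F)).1 hy))
  Q_U i x hx := (mem_uS (tw F)).2 (C.US_mono K (fun _ hr => hr.1) ((mem_uS (tw F)).1 hx))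
  X_L i := le_sup_left
  Y_L := YY_le_LL F
  n_L := nS_mem F
  Y_eq := Y_eq' F
  n_T i h hh := conj_tor F ((tw F).nO_mono _) hh
  n_sq := n_sq' F
  n_eq := n_eq' F
  L_Q i k hk q hq := L_Q' F i hk hq
  split i u hu := by
    obtain ⟨a, ha, c, hc, h⟩ := exists_split (tw F) (oN F i) u⁻¹ (inv_mem hu)
    exact ⟨c⁻¹, inv_mem hc, a⁻¹, inv_mem ha, by rw [← mul_inv_rev, ← h, inv_inv]⟩
  L_form i := exists_form (tw F) (hq F) (oN F i) (nS_mem F i)
  L_T_fix i h hh hL hc := L_T_fix' F hm hS hsg i hh hL hc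
  indep h hh h0 h1 := F4.indep F hm hS hsg h (Subgroup.mem_inf.2 ⟨hh, h0⟩) h⁻¹
    (Subgroup.mem_inf.2 ⟨inv_mem hh, inv_mem h1⟩) (mul_inv_cancel h)
  fix_comm i z hz hc x hx := commute_LL F hz (fixes_of_commute_n F hz hc) x (Subgroup.mem_sup_left hx)
  free i z hz x hx hx1 hc := free' F i hz hx hx1 hc
  freeQ i z hz hz1 hn q hq hc := freeQ' F i hz hz1 hn hq hc
  fix_card := fix_card' F
  line t ht ht1 u hu hu1 hc := line' F ht ht1 hu hu1 hc
  w_T i h hh := conj_tor F (nwd_spec F _).2 hh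
  w_comm i k hk l hl := w_comm' F i hk hl
  w_U i x hx := w_U' F i hx
  w_V i y hy := w_V' F i hy
  X0_Q1 x hx := (mem_uS (tw F)).2 (C.US_mono K (fun r (hr : r ∈ Jr 0) => (show r ∈ C.Pos \ C.inv' ((tw F).wO (oN F 1)) from ⟨Jr_pos 0 r hr, by
    rw [inv'_eq]; exact Jr_disj r hr⟩)) ((mem_XX F).1 hx))
  X1_Y0 x hx y hy := by
    have hle : C.US K {r | r ∈ Jr 1} ≤ Subgroup.centralizer (C.US K {r | r.rev ∈ Jr 0} : Set (GL chevF4.Idx K)) := by
      refine (Subgroup.closure_le _).2 ?_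
      rintro _ ⟨r, hr, a, rfl⟩
      refine Subgroup.mem_centralizer_iff.2 fun g hg => ?_
      have hle' : C.US K {r | r.rev ∈ Jr 0} ≤ Subgroup.centralizer {C.X K r a} := (Subgroup.closure_le _).2 (by
        rintro _ ⟨s, hs, b, rfl⟩
        exact Subgroup.mem_centralizer_singleton_iff.2 (commute_com F (X1Y0_com r hr s hs) a b).eq.symm)
      exact Subgroup.mem_centralizer_singleton_iff.1 (hle' hg)
    exact Subtype.ext (Subgroup.mem_centralizer_iff.1 (hle ((mem_XX F).1 hx)) _ ((mem_uS (tw F)).1 hy)).symm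
  X_card i p hp hpo hpN hdvd := by
    obtain ⟨k, hk⟩ := card_XX F i
    rw [hk] at hdvd
    have h1 : (Fintype.card K : ZMod p) = 1 := by
      rw [← Nat.sub_add_cancel (Fintype.card_pos (α := K)), Nat.cast_add,
        (ZMod.natCast_eq_zero_iff _ _).2 hpN, zero_add, Nat.cast_one]
    have h2 : ((2 : ℕ) : ZMod p) = 0 := by
      rw [← (ZMod.natCast_eq_zero_iff _ _).2 hdvd, Nat.cast_add, Nat.cast_pow, h1, one_pow, Nat.cast_one,
        Nat.cast_ofNat, one_add_one_eq_two]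
    have h3 := Nat.le_of_dvd two_pos ((ZMod.natCast_eq_zero_iff _ _).1 h2)
    have h4 := hp.two_le
    obtain rfl : p = 2 := by omega
    exact absurd hpo (by decide)
  cells := cells' F hS

include hS in
theorem word_pow : (wMat K * utMat m (0 : K) 1) ^ 5 = 1 ∧ (wMat K * wMat K) = 1 ∧
    utMat m (0 : K) 1 * utMat m (0 : K) 1 = 1 ∧ (wMat K * utMat m (0 : K) 1) 0 0 ≠ 1 := by
  haveI := charTwo hS
  let f : ZMod 2 →+* K := ZMod.castHom dvd_rfl K
  let A : Matrix (Fin 4) (Fin 4) (ZMod 2) := !![0, 0, 0, 1; 0, 0, 1, 0; 0, 1, 0, 0; 1, 0, 0, 0]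
  let B : Matrix (Fin 4) (Fin 4) (ZMod 2) := !![1, 0, 1, 1; 0, 1, 0, 1; 0, 0, 1, 0; 0, 0, 0, 1]
  have hA : wMat K = f.mapMatrix A := by
    ext a b
    fin_cases a <;> fin_cases b <;> simp [wMat, A]
  have hB : utMat m (0 : K) 1 = f.mapMatrix B := by
    ext a b
    fin_cases a <;> fin_cases b <;> simp [utMat, zfun, sg_zero, sg_one, B]
  rw [hA, hB, ← map_mul f.mapMatrix A B, ← map_mul f.mapMatrix A A, ← map_mul f.mapMatrix B B, ← map_pow]
  have k1 : (A * B) ^ 5 = 1 := by decide +kernel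
  have k2 : A * A = 1 := by decide +kernel
  have k3 : B * B = 1 := by decide +kernel
  refine ⟨by rw [k1, map_one], by rw [k2, map_one], by rw [k3, map_one], ?_⟩
  intro h
  rw [RingHom.mapMatrix_apply, Matrix.map_apply, show (A * B) 0 0 = 0 by decide +kernel, map_zero] at h
  exact zero_ne_one h

include hm hS hsg in
theorem two_conj : ∃ x : ↥(tw F).W, Odd (orderOf x) ∧ ∀ g, ∃ u v, g = (u * x * u⁻¹) * (v * x * v⁻¹) := by
  classical
  haveI : Finite (Matrix chevF4.Idx chevF4.Idx K) := inferInstanceAs (Finite (chevF4.Idx → chevF4.Idx → K))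
  haveI : Finite (GL chevF4.Idx K) :=
    Finite.of_injective (fun g : GL chevF4.Idx K => g.1) (fun g h e => Units.ext e)
  obtain ⟨n0, σ, hσ, hn0, hn0a, hP, -, hUV, -⟩ := (tw F).exists_opp
  have hrev : ∀ r, σ r = r.rev := (rigid F).opp σ hσ hP
  have hrev' : ∀ r, σ⁻¹ r = r.rev := fun r => by
    rw [Equiv.Perm.inv_eq_iff_eq, hrev, Fin.rev_rev]
  have hinv : C.Acts ((n0⁻¹ : ↥(tw F).W) : GL chevF4.Idx K) σ⁻¹ := C.acts_inv K hn0a
  set b₀ := gBW F (0 : K) 1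
  have hb₀ : b₀ ∈ LL F 1 := Subgroup.mem_sup_left ((mem_uO1 F).2 ⟨0, 1, rfl⟩)
  have hn : nn F 1 ∈ LL F 1 := nS_mem F 1
  set y₀ := nn F 1 * b₀
  have hy : y₀ ∈ LL F 1 := mul_mem hn hb₀
  obtain ⟨k1, k2, k3, k4⟩ := word_pow (m := m) hS
  have v2 : (h1 F ⟨nn F 1, hn⟩ : Matrix (Fin 4) (Fin 4) K) = wMat K := bl1_P1 F
  have v3 : (h1 F ⟨b₀, hb₀⟩ : Matrix (Fin 4) (Fin 4) K) = utMat m (0 : K) 1 := by
    rw [h1_val]
    refine (bl1_gB F hsg (0 : K) 1).trans ?_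
    rw [map_zero, zero_mul, zero_add]
  have inj := h1_injective F hsg
  have e2 : nn F 1 * nn F 1 = 1 := congrArg Subtype.val
    (inj (a₁ := ⟨nn F 1, hn⟩ * ⟨nn F 1, hn⟩) (a₂ := 1) (Units.ext (by rw [map_mul, map_one, Units.val_mul, v2, k2, Units.val_one])))
  have e3 : b₀ * b₀ = 1 := congrArg Subtype.val
    (inj (a₁ := ⟨b₀, hb₀⟩ * ⟨b₀, hb₀⟩) (a₂ := 1) (Units.ext (by rw [map_mul, map_one, Units.val_mul, v3, k3, Units.val_one])))
  have e5 : y₀ ^ 5 = 1 := congrArg Subtype.val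
    (inj (a₁ := (⟨nn F 1, hn⟩ * ⟨b₀, hb₀⟩) ^ 5) (a₂ := 1)
      (Units.ext (by rw [map_pow, map_mul, map_one, Units.val_pow_eq_pow_val, Units.val_mul, v2, v3, k1, Units.val_one])))
  have hne : (⟨y₀, hy⟩ : ↥(LL F 1)) ≠ 1 := fun h => k4 (by
    have h' : h1 F (⟨nn F 1, hn⟩ * ⟨b₀, hb₀⟩) = 1 := by rw [← map_one (h1 F)]; exact congrArg _ h
    have h'' := congrArg Units.val h'
    rw [map_mul, Units.val_mul, v2, v3, Units.val_one] at h''
    rw [h'', Matrix.one_apply_eq])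
  have hord : 2 < orderOf (TwMult.F4.iso1 F hm hS hsg ⟨y₀, hy⟩) := by
    haveI : Fact (Nat.Prime 5) := ⟨by decide⟩
    rw [MulEquiv.orderOf_eq, orderOf_eq_prime (p := 5) (Subtype.ext e5) hne]
    decide
  refine (setup F hm hS hsg).two_conj
    { o := n0
      y₀ := y₀
      o_T := fun h hh => ?_
      o_L := ?_
      o_V := fun v hv => ?_
      y₀_L := hy
      y₀_pow := e5
      five := ?_
      real := ⟨b₀, hb₀, ?_⟩
      cover := ?_ }
  · show n0⁻¹ * h * n0 ∈ tor (tw F)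
    simpa using conj_tor F (g := n0⁻¹) (inv_mem hn0) hh
  · have hX : ∀ x ∈ XX F 1, n0⁻¹ * x * n0 ∈ YY F 1 := fun x hx => by
      have h := conj_uS (tw F) hinv (S' := {r | r.rev ∈ Jr 1}) (fun r hr => (?_ : (σ⁻¹ r).rev ∈ Jr 1)) x hx
      · rwa [inv_inv] at h
      · rw [inv'_eq] at hr
        rw [hrev', Fin.rev_rev]
        exact hr
    have hY : ∀ y ∈ YY F 1, n0⁻¹ * y * n0 ∈ XX F 1 := fun y hy => by
      have h := conj_uS (tw F) hinv (S' := {r | r ∈ Jr 1}) (fun r (hr : r.rev ∈ Jr 1) => (?_ : σ⁻¹ r ∈ Jr 1)) y hy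
      · rw [inv_inv] at h
        exact (mem_XX F).2 ((mem_uS (tw F)).1 h)
      · rw [hrev']
        exact hr
    intro k hk
    show n0⁻¹ * k * n0 ∈ LL F 1
    refine (?_ : LL F 1 ≤ (LL F 1).comap (MulAut.conj n0⁻¹).toMonoidHom) hk |> fun h => by simpa using h
    refine sup_le (fun x hx => ?_) ?_
    · show n0⁻¹ * x * n0⁻¹⁻¹ ∈ LL F 1
      rw [inv_inv]
      exact YY_le_LL F 1 (hX x hx)
    · rintro _ ⟨x, hx, rfl⟩
      show n0⁻¹ * (nn F 1 * x * (nn F 1)⁻¹) * n0⁻¹⁻¹ ∈ LL F 1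
      rw [inv_inv]
      exact Subgroup.mem_sup_left (hY _ (conj_XX F 1 hx))
  · have h := (hUV (n0⁻¹ * v * n0)).1 (by
      rw [show n0 * (n0⁻¹ * v * n0) * n0⁻¹ = v by group]
      exact hv)
    exact h
  · show ¬ 5 ∣ Fintype.card K - 1
    have h1 := Fintype.one_lt_card (α := K)
    rcases five_aux m with h | h <;> rw [← hS.card] at h <;> omega
  · show b₀ * (nn F 1 * b₀) * b₀⁻¹ = (nn F 1 * b₀)⁻¹
    rw [mul_inv_rev, show b₀ * (nn F 1 * b₀) * b₀⁻¹ = b₀ * nn F 1 by group, inv_eq_of_mul_eq_one_right e3,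
      inv_eq_of_mul_eq_one_right e2]
  · intro M hM hM1
    set φ := TwMult.F4.iso1 F hm hS hsg
    have hφ : φ ⟨M, hM⟩ ≠ 1 := fun h => hM1 (congrArg Subtype.val ((map_eq_one_iff φ φ.injective).1 h))
    obtain ⟨u, v, huv⟩ := SzChars.Cover.product_of_two hS hm hord hφ
    refine ⟨(φ.symm u).1, (φ.symm u).2, (φ.symm v).1, (φ.symm v).2, ?_⟩
    have h' := congrArg φ.symm huv
    simp only [map_mul, map_inv, MulEquiv.symm_apply_apply] at h'
    exact congrArg Subtype.val h'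

end Cfsg.Agent.Lib.ReeGauss50.Concrete
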