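import Cfsg.Agent.Lib.ReeGauss50.Setup

/-!
Every element of a group with the abstract rank two data is conjugate into `V U`.
-/

set_option autoImplicit false
set_option linter.unusedSectionVars false

namespace Cfsg.Agent.Lib.ReeGauss50.Setup

variable {G : Type*} [Group G] (S : Setup G)

/-- Conjugate into V U. -/
def Good (g : G) : Prop := ∃ k : G, ∃ v ∈ S.V, ∃ u ∈ S.U, k * g * k⁻¹ = v * u

theorem Good.of_conj {g g' : G} (k : G) (e : k * g * k⁻¹ = g') (h : S.Good g') : S.Good g := by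
  obtain ⟨k', v, hv, u, hu, e'⟩ := h
  exact ⟨k' * k, v, hv, u, hu, by rw [← e', ← e]; group⟩

theorem T_left {t u : G} {H : Subgroup G} (hH : ∀ t ∈ S.T, ∀ u ∈ H, t * u * t⁻¹ ∈ H) (ht : t ∈ S.T) (hu : u ∈ H) :
    ∃ u' ∈ H, u * t = t * u' := ⟨t⁻¹ * u * t, S.T_inv hH ht hu, by group⟩

variable [Finite G] (i : Fin 2)

theorem good_LZ {k z : G} (hk : k ∈ S.L i) (hz : z ∈ S.ZZ i) : S.Good (k * z) := by
  obtain ⟨h, hh, rfl⟩ := S.ZZ_eq_conj i hz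
  obtain ⟨j, hj, y, hy, x, hx, ej⟩ := S.conj_YX i hk
  obtain ⟨j', hj', y', hy', x', hx', ej'⟩ := S.conj_YX i (S.TT_le_L i hh)
  set w := S.w i
  have c := S.w_comm i
  refine ⟨j * (w * j' * w⁻¹), y * (w * y' * w⁻¹), mul_mem (S.Y_V i hy) (S.w_V i _ hy'),
    x * (w * x' * w⁻¹), mul_mem (S.X_U i hx) (S.w_U i _ hx'), ?_⟩
  have c1 : Commute (w * j' * w⁻¹) k := c j' hj' k hk
  have c2 : Commute (w * (j' * h * j'⁻¹) * w⁻¹) j :=
    c _ (mul_mem (mul_mem hj' (S.TT_le_L i hh)) (inv_mem hj')) j hj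
  have c3 : Commute (w * y' * w⁻¹) x := c _ (S.Y_L i hy') x (S.X_L i hx)
  calc j * (w * j' * w⁻¹) * (k * (w * h * w⁻¹)) * (j * (w * j' * w⁻¹))⁻¹
      = j * (w * j' * w⁻¹ * k) * (w * h * w⁻¹) * (w * j' * w⁻¹)⁻¹ * j⁻¹ := by group
    _ = j * k * (w * (j' * h * j'⁻¹) * w⁻¹ * j⁻¹) := by rw [c1.eq]; group
    _ = (j * k * j⁻¹) * (w * (j' * h * j'⁻¹) * w⁻¹) := by rw [c2.inv_right.eq]; group
    _ = y * x * ((w * y' * w⁻¹) * (w * x' * w⁻¹)) := by rw [ej, ej']; group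
    _ = y * ((w * y' * w⁻¹) * x) * (w * x' * w⁻¹) := by rw [c3.eq]; group
    _ = _ := by group

/-- The Borel group. -/
theorem good_B {t u : G} (ht : t ∈ S.T) (hu : u ∈ S.U) : S.Good (t * u) := by
  by_cases h1 : t = 1
  · exact ⟨1, 1, one_mem _, u, hu, by simp [h1]⟩
  have hodd : Odd (orderOf t) := S.T_odd.of_dvd_nat
    (by rw [← Subgroup.orderOf_mk t ht]; exact orderOf_dvd_natCard _)
  obtain ⟨v, -, c, hc, htc, e⟩ :=
    conj_centralized S.U S.U_pgroup hodd (fun u hu => S.T_inv S.T_U ht hu) hu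
  refine Good.of_conj S v e ?_
  by_cases hc1 : c = 1
  · obtain ⟨s, hs, z, hz, rfl⟩ := S.exists_TT_ZZ 0 ht
    rw [hc1, mul_one]
    exact S.good_LZ 0 (S.TT_le_L 0 hs) hz
  obtain ⟨i, g, hgt, hgc⟩ := S.line t ht h1 c hc hc1 htc
  have hcomm : Commute (g * t * g⁻¹) (g * c * g⁻¹) := by simpa using htc.map (MulAut.conj g).toMonoidHom
  have hn := S.free i _ hgt _ hgc (by simpa using hc1) hcomm
  refine Good.of_conj S g (?_ : g * (t * c) * g⁻¹ = (g * c * g⁻¹) * (g * t * g⁻¹)) ?_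
  · rw [← hcomm.eq]; group
  · exact S.good_LZ i (S.X_L i hgc) ((S.mem_ZZ i).2 ⟨hgt, hn⟩)

theorem n_not_B : ¬ ∃ a ∈ S.X i, ∃ h ∈ S.T, S.n i = a * h := by
  rintro ⟨a, ha, h, hh, e⟩
  obtain ⟨x, hx, y, hy, x', hx', en⟩ := S.n_eq i
  have ey : y = (x⁻¹ * a * (h * x'⁻¹ * h⁻¹)) * h := by
    calc y = x⁻¹ * (x * y * x') * x'⁻¹ := by group
      _ = _ := by rw [← en, e]; group
  obtain ⟨-, hh1⟩ := S.B_V hh (mul_mem (mul_mem (inv_mem (S.X_U i hx)) (S.X_U i ha))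
    (S.T_U h hh _ (inv_mem (S.X_U i hx')))) (ey ▸ S.Y_V i hy)
  rw [hh1, mul_one] at e
  have hsub : ∀ t ∈ S.TT i, t = 1 := fun t ht => by
    refine S.sq_eq_one ht.1 (inv_eq_one.1 ?_)
    refine S.U_inf_T ?_ (inv_mem (mul_mem ht.1 ht.1))
    have h2 : S.n i * (t * (S.n i)⁻¹ * t⁻¹) ∈ S.U :=
      mul_mem (by rw [e]; exact S.X_U i ha) (S.T_U t ht.1 _ (inv_mem (by rw [e]; exact S.X_U i ha)))
    rw [show S.n i * (t * (S.n i)⁻¹ * t⁻¹) = S.n i * t * (S.n i)⁻¹ * t⁻¹ by group, ht.2, ← mul_inv_rev] at h2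
    exact h2
  have hcard : Nat.card ↥(S.TT i) = 1 := by
    have : Subsingleton ↥(S.TT i) :=
      ⟨fun a b => Subtype.ext ((hsub a.1 a.2).trans (hsub b.1 b.2).symm)⟩
    exact Nat.card_of_subsingleton (1 : ↥(S.TT i))
  have := (S.card_ZZ i).2
  have := S.N0_gt
  omega

theorem cell_left {a a' b : G} (ha : a ∈ S.X i) (ha' : a' ∈ S.X i) (hb : b ∈ S.U) {h : G} (hh : h ∈ S.T)
    (e : (S.n i)⁻¹ * (a⁻¹ * a') * S.n i = b * h) : a = a' ∧ b = 1 ∧ h = 1 := by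
  have hV : (S.n i)⁻¹ * (a⁻¹ * a') * S.n i ∈ S.V := S.Y_V i (S.n_inv_X i (mul_mem (inv_mem ha) ha'))
  rw [e] at hV
  obtain ⟨h1, h2⟩ := S.B_V hh hb hV
  refine ⟨?_, h1, h2⟩
  rw [h1, h2, one_mul] at e
  have h3 : a⁻¹ * a' = 1 := by
    simpa using conj_eq_one_iff.1 (show (S.n i)⁻¹ * (a⁻¹ * a') * ((S.n i)⁻¹)⁻¹ = 1 by rwa [inv_inv])
  exact inv_mul_eq_one.1 h3

/-- The Borel group of a rank one group. -/
def BL : Subgroup G where
  carrier := {k | k ∈ S.L i ∧ ∃ a ∈ S.X i, ∃ h ∈ S.T, k = a * h}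
  one_mem' := ⟨one_mem _, 1, one_mem _, 1, one_mem _, (one_mul _).symm⟩
  mul_mem' := by
    rintro _ _ ⟨h1, a, ha, h, hh, rfl⟩ ⟨h2, b, hb, k, hk, rfl⟩
    exact ⟨mul_mem h1 h2, a * (h * b * h⁻¹), mul_mem ha (S.T_X i h hh b hb), h * k, mul_mem hh hk, by group⟩
  inv_mem' := by
    rintro _ ⟨h1, a, ha, h, hh, rfl⟩
    exact ⟨inv_mem h1, h⁻¹ * a⁻¹ * h, S.T_inv (S.T_X i) hh (inv_mem ha), h⁻¹, inv_mem hh, by group⟩

theorem card_quot : Nat.card (↥(S.L i) ⧸ (S.BL i).subgroupOf (S.L i)) = Nat.card ↥(S.X i) + 1 := by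
  classical
  let φ : Option ↥(S.X i) → ↥(S.L i) ⧸ (S.BL i).subgroupOf (S.L i) := fun o =>
    o.elim (((1 : ↥(S.L i))) : _ ⧸ _) fun a =>
      ((⟨a.1 * S.n i, mul_mem (S.X_L i a.2) (S.n_L i)⟩ : ↥(S.L i)) : _ ⧸ _)
  have h0 : ∀ a : ↥(S.X i), φ none ≠ φ (some a) := by
    intro a e
    have h := QuotientGroup.eq.1 e
    rw [Subgroup.mem_subgroupOf] at h
    obtain ⟨-, b, hb, h', hh', e'⟩ := h
    simp only [inv_one, one_mul] at e'
    exact S.n_not_B i ⟨a.1⁻¹ * b, mul_mem (inv_mem a.2) hb, h', hh', by rw [mul_assoc, ← e', inv_mul_cancel_left]⟩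
  have hinj : Function.Injective φ := by
    rintro (_ | a) (_ | b) e
    · rfl
    · exact absurd e (h0 b)
    · exact absurd e.symm (h0 a)
    · have h := QuotientGroup.eq.1 e
      rw [Subgroup.mem_subgroupOf] at h
      obtain ⟨-, x, hx, h', hh', e'⟩ := h
      refine congrArg some (Subtype.ext (S.cell_left i a.2 b.2 (S.X_U i hx) hh' ?_).1)
      simpa [mul_assoc] using e'
  have hsurj : Function.Surjective φ := by
    intro c
    induction c using QuotientGroup.induction_on with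
    | H k =>
      rcases S.L_form i k.1 k.2 with ⟨a, ha, h, hh, e⟩ | ⟨a, ha, b, hb, h, hh, e⟩
      · refine ⟨none, QuotientGroup.eq.2 (Subgroup.mem_subgroupOf.2 ?_)⟩
        show (1 : G)⁻¹ * k.1 ∈ S.BL i
        rw [inv_one, one_mul]
        exact ⟨k.2, a, ha, h, hh, e⟩
      · refine ⟨some ⟨a, ha⟩, QuotientGroup.eq.2 (Subgroup.mem_subgroupOf.2 ?_)⟩
        show (a * S.n i)⁻¹ * k.1 ∈ S.BL i
        exact ⟨mul_mem (inv_mem (mul_mem (S.X_L i ha) (S.n_L i))) k.2, b, hb, h, hh, by rw [e]; group⟩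
  rw [← Nat.card_congr (Equiv.ofBijective φ ⟨hinj, hsurj⟩), Finite.card_option]

/-- A cell of a minimal parabolic group. -/
theorem good_cell {t u t' u' : G} (ht : t ∈ S.T) (hu : u ∈ S.U) (ht' : t' ∈ S.T) (hu' : u' ∈ S.U) :
    S.Good (t * u * S.n i * (t' * u')) := by
  obtain ⟨u'', hu'', eu⟩ := S.T_left S.T_U ht hu'
  refine Good.of_conj S (t * u)⁻¹ (g' := (S.n i) * (t' * t * (u'' * u))) ?_ ?_
  · calc (t * u)⁻¹ * (t * u * (S.n i) * (t' * u')) * ((t * u)⁻¹)⁻¹ = (S.n i) * t' * (u' * t) * u := by group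
      _ = _ := by rw [eu]; group
  obtain ⟨s, hs, z, hz, est⟩ := S.exists_TT_ZZ i (mul_mem ht' ht)
  obtain ⟨c, hc, q, hq, ecq⟩ := S.split i (u'' * u) (mul_mem hu'' hu)
  rw [est, ecq]
  set m := (S.n i) * s * c
  have hm : m ∈ S.L i := mul_mem (mul_mem (S.n_L i) (S.TT_le_L i hs)) (S.X_L i hc)
  have hzc : Commute z c := S.ZZ_comm_L i hz (S.X_L i hc)
  have hzT : z ∈ S.T := ((S.mem_ZZ i).1 hz).1
  rw [show (S.n i) * (s * z * (c * q)) = m * z * q by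
    simp only [m]
    calc (S.n i) * (s * z * (c * q)) = (S.n i) * s * (z * c) * q := by group
      _ = _ := by rw [hzc.eq]; group]
  by_cases hz1 : z = 1
  · obtain ⟨j, hj, y, hy, x, hx, ej⟩ := S.conj_YX i hm
    refine ⟨j, y, S.Y_V i hy, x * (j * q * j⁻¹), mul_mem (S.X_U i hx) (S.Q_U i (S.L_Q i j hj q hq)), ?_⟩
    rw [hz1, mul_one, show y * (x * (j * q * j⁻¹)) = (y * x) * (j * q * j⁻¹) from (mul_assoc _ _ _).symm, ← ej]
    group
  have hQ : ∀ p ∈ S.Q i, m * z * p * (m * z)⁻¹ ∈ S.Q i := fun p hp => by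
    rw [show m * z * p * (m * z)⁻¹ = m * (z * p * z⁻¹) * m⁻¹ by group]
    exact S.L_Q i m hm _ (S.T_Q i z hzT p hp)
  by_cases hfree : ∀ p ∈ S.Q i, Commute (m * z) p → p = 1
  · obtain ⟨p, -, ep⟩ := conj_of_free' (S.Q i) hQ hfree hq
    exact Good.of_conj S p⁻¹ (by rw [← ep]; group) (S.good_LZ i hm hz)
  push Not at hfree
  obtain ⟨q₀, hq₀, hcq, hq₀1⟩ := hfree
  have hzm : Commute m z := (S.ZZ_comm_L i hz hm).symm
  set N := orderOf m with hN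
  have hzN : z ^ N = 1 := by
    have h := hcq.pow_left N
    rw [hzm.mul_pow, pow_orderOf_eq_one, one_mul] at h
    by_contra hne
    exact hq₀1 (S.freeQ i _ (pow_mem hzT N) hne (((S.mem_ZZ i).1 hz).2.pow_right N) q₀ hq₀ h)
  set p := (orderOf z).minFac with hp'
  have hp : p.Prime := Nat.minFac_prime fun h => hz1 (orderOf_eq_one_iff.1 h)
  haveI := Fact.mk hp
  have hpz : p ∣ orderOf z := Nat.minFac_dvd _
  have hpN0 : p ∣ S.N0 := by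
    rw [← (S.card_ZZ i).1]
    exact hpz.trans (by rw [← Subgroup.orderOf_mk z hz]; exact orderOf_dvd_natCard _)
  have hpodd : Odd p :=
    S.T_odd.of_dvd_nat (hpz.trans (by rw [← Subgroup.orderOf_mk z hzT]; exact orderOf_dvd_natCard _))
  have hpN : p ∣ N := hpz.trans (orderOf_dvd_of_pow_eq_one hzN)
  have hw : orderOf (m ^ (N / p)) = p := orderOf_pow_orderOf_div (orderOf_pos m).ne' hpN
  obtain ⟨k, hk, hkB⟩ := exists_conj_mem (B := S.BL i) hw (fun x hx => hx.1) (pow_mem hm _)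
    (by rw [card_quot]; exact S.X_card i p hp hpodd hpN0)
  obtain ⟨hkL, a, ha, h, hh, e⟩ := hkB
  have hord : orderOf (k⁻¹ * m ^ (N / p) * k) = p := by
    have h1 := MulEquiv.orderOf_eq (MulAut.conj k⁻¹) (m ^ (N / p))
    rwa [MulAut.conj_apply, inv_inv, hw] at h1
  have hh1 : h ≠ 1 := by
    intro h1
    rw [h1, mul_one] at e
    have := S.eq_one_odd (S.X_U i ha) (by rw [← e, hord]; exact hpodd)
    rw [e, this, orderOf_one] at hord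
    exact hp.one_lt.ne hord
  have hhT : h ∈ S.TT i := S.TT_of_mem_L i hh (by
    rw [show h = a⁻¹ * (k⁻¹ * m ^ (N / p) * k) by rw [e, inv_mul_cancel_left]]
    exact mul_mem (inv_mem (S.X_L i ha)) hkL)
  obtain ⟨r, hr, er⟩ := conj_of_free (S.X i) (x := h) (S.T_X i h hh) (S.TT_free_X i hhT hh1) ha
  set j := r⁻¹ * k⁻¹
  have hj : j ∈ S.L i := mul_mem (inv_mem (S.X_L i hr)) (inv_mem hk)
  have hcm : Commute (j * m * j⁻¹) h := by
    have h1 := ((Commute.refl m).pow_right (N / p)).map (MulAut.conj j).toMonoidHom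
    simp only [MulEquiv.coe_toMonoidHom, MulAut.conj_apply] at h1
    rwa [show j * m ^ (N / p) * j⁻¹ = h by
      rw [show j * m ^ (N / p) * j⁻¹ = r⁻¹ * (k⁻¹ * m ^ (N / p) * k) * r by simp only [j]; group, e, ← er]
      group] at h1
  refine Good.of_conj S j (g' := j * m * j⁻¹ * z * (j * q * j⁻¹)) ?_ ?_
  · calc j * (m * z * q) * j⁻¹ = j * m * (z * j⁻¹) * (j * q * j⁻¹) := by group
      _ = _ := by rw [((S.ZZ_comm_L i hz (inv_mem hj))).eq]; group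
  rcases S.L_form i _ (mul_mem (mul_mem hj hm) (inv_mem hj)) with
    ⟨a', ha', h', hh', e'⟩ | ⟨a', ha', b, hb, h', hh', e'⟩
  · obtain ⟨a'', ha'', ea⟩ := S.T_left S.T_U (mul_mem hh' hzT) (S.X_U i ha')
    rw [e', mul_assoc a', ea, mul_assoc]
    exact S.good_B (mul_mem hh' hzT) (mul_mem ha'' (S.Q_U i (S.L_Q i j hj q hq)))
  · exfalso
    rw [e'] at hcm
    have eL : h * (a' * (S.n i) * b * h') = (h * a' * h⁻¹) * (S.n i) * (h⁻¹ * b * h) * (h⁻¹ * h') := by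
      calc h * (a' * (S.n i) * b * h') = (h * a' * h⁻¹) * (h * (S.n i)) * b * h' := by group
        _ = _ := by rw [S.T_n i hhT]; group
    have h2 := hcm.eq
    rw [eL] at h2
    -- uniqueness of the decomposition
    set b₁ := h⁻¹ * b * h
    have hb₁ : b₁ ∈ S.X i := S.T_inv (S.T_X i) hh hb
    set c₁ := h⁻¹ * h'
    have hc₁ : c₁ ∈ S.T := mul_mem (inv_mem hh) hh'
    have e3 : (S.n i)⁻¹ * (a'⁻¹ * (h * a' * h⁻¹)) * (S.n i) =
        (b * ((h' * h * c₁⁻¹) * b₁⁻¹ * (h' * h * c₁⁻¹)⁻¹)) * (h' * h * c₁⁻¹) := by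
      calc (S.n i)⁻¹ * (a'⁻¹ * (h * a' * h⁻¹)) * (S.n i)
          = (S.n i)⁻¹ * a'⁻¹ * ((h * a' * h⁻¹) * (S.n i) * b₁ * c₁) * c₁⁻¹ * b₁⁻¹ := by group
        _ = _ := by rw [← h2]; group
    have hT3 : h' * h * c₁⁻¹ ∈ S.T := mul_mem (mul_mem hh' hh) (inv_mem hc₁)
    obtain ⟨-, -, h3⟩ := S.cell_left i ha' (S.T_X i h hh a' ha')
      (mul_mem (S.X_U i hb) (S.T_U _ hT3 _ (inv_mem (S.X_U i hb₁)))) hT3 e3
    refine hh1 (S.sq_eq_one hh ?_)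
    rw [← h3]
    simp only [c₁]
    rw [mul_inv_rev, inv_inv, mul_assoc h', ← mul_assoc h h'⁻¹, S.T_comm h hh _ (inv_mem hh'),
      mul_assoc h'⁻¹, mul_inv_cancel_left]

/-- The product of the two cells. -/
theorem good_ab {t u t' u' s v s' v' : G} (ht : t ∈ S.T) (hu : u ∈ S.U) (ht' : t' ∈ S.T) (hu' : u' ∈ S.U)
    (hs : s ∈ S.T) (hv : v ∈ S.U) (hs' : s' ∈ S.T) (hv' : v' ∈ S.U) :
    S.Good (t * u * S.n 0 * (t' * u') * (s * v * S.n 1 * (s' * v'))) := by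
  set a := S.n 0 with ha
  set b := S.n 1 with hb
  obtain ⟨u₁, hu₁, e1⟩ := S.T_left S.T_U hs hu'
  obtain ⟨v₁, hv₁, e2⟩ := S.T_left S.T_U ht hv'
  obtain ⟨c, hc, q, hq, ecq⟩ := S.split 0 (u₁ * v) (mul_mem hu₁ hv)
  set h := t' * s
  have hh : h ∈ S.T := mul_mem ht' hs
  set R := s' * t * (v₁ * u)
  refine Good.of_conj S (t * u)⁻¹ (g' := a * h * (c * q) * b * R) ?_ ?_
  · rw [← ecq]
    calc (t * u)⁻¹ * (t * u * a * (t' * u') * (s * v * b * (s' * v'))) * ((t * u)⁻¹)⁻¹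
        = a * t' * (u' * s) * v * b * s' * (v' * t) * u := by group
      _ = _ := by rw [e1, e2]; simp only [h, R]; group
  set q' := a * (h * (c * q * c⁻¹) * h⁻¹) * a⁻¹
  have hq' : q' ∈ S.Q 0 := S.L_Q 0 a (S.n_L 0) _ (S.T_Q 0 h hh _ (S.L_Q 0 c (S.X_L 0 hc) q hq))
  set c' := b⁻¹ * c * b
  have hc' : c' ∈ S.U := by
    have := S.L_Q 1 b⁻¹ (inv_mem (S.n_L 1)) c (S.X0_Q1 hc)
    rw [inv_inv] at this
    exact S.Q_U 1 this
  refine Good.of_conj S q'⁻¹ (g' := a * h * b * (c' * R * q')) (by simp only [q', c']; group) ?_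
  obtain ⟨c'', hc'', e3⟩ := S.T_left S.T_U (mul_mem hs' ht) hc'
  set H := b⁻¹ * h * b * (s' * t)
  have hH : H ∈ S.T := mul_mem (by rw [hb, S.n_inv_T 1 hh]; exact S.n_T 1 h hh) (mul_mem hs' ht)
  set w := c'' * (v₁ * u) * q'
  have hw : w ∈ S.U := mul_mem (mul_mem hc'' (mul_mem hv₁ hu)) (S.Q_U 0 hq')
  rw [show a * h * b * (c' * R * q') = a * b * H * w by
    calc a * h * b * (c' * R * q') = a * h * b * (c' * (s' * t)) * (v₁ * u) * q' := by simp only [R]; group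
      _ = _ := by rw [e3]; simp only [H, w]; group]
  -- decompose the torus part
  let φ : ↥(S.TT 0) × ↥(S.TT 1) → ↥S.T := fun x => ⟨b⁻¹ * x.1.1 * b * x.2.1,
    mul_mem (by rw [hb, S.n_inv_T 1 x.1.2.1]; exact S.n_T 1 _ x.1.2.1) x.2.2.1⟩
  have hφ : Function.Injective φ := by
    intro x y e
    have e' : b⁻¹ * x.1.1 * b * x.2.1 = b⁻¹ * y.1.1 * b * y.2.1 := congrArg Subtype.val e
    set r := y.2.1 * x.2.1⁻¹
    have hr : r ∈ S.TT 1 := mul_mem y.2.2 (inv_mem x.2.2)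
    have e4 : y.1.1⁻¹ * x.1.1 = b * r * b⁻¹ := by
      calc y.1.1⁻¹ * x.1.1 = y.1.1⁻¹ * b * (b⁻¹ * x.1.1 * b * x.2.1) * x.2.1⁻¹ * b⁻¹ := by group
        _ = _ := by rw [e']; simp only [r]; group
    have hin : y.1.1⁻¹ * x.1.1 ∈ S.TT 1 := by rw [e4, hb, hr.2]; exact inv_mem hr
    have hin0 : y.1.1⁻¹ * x.1.1 ∈ S.TT 0 := mul_mem (inv_mem y.1.2) x.1.2
    have h1 : y.1.1 = x.1.1 :=
      inv_mul_eq_one.1 (S.indep _ hin0.1 (S.TT_le_L 0 hin0) (S.TT_le_L 1 hin))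
    refine Prod.ext (Subtype.ext h1.symm) (Subtype.ext ?_)
    rw [h1] at e'
    exact mul_left_cancel e'
  obtain ⟨⟨⟨σ, hσ⟩, ⟨ρ, hρ⟩⟩, eH⟩ := (hφ.bijective_of_nat_card_le (le_of_eq (by
    rw [Nat.card_prod, (S.card_ZZ 0).2, (S.card_ZZ 1).2, S.T_card]))).2 ⟨H, hH⟩
  have eH' : b⁻¹ * σ * b * ρ = H := congrArg Subtype.val eH
  obtain ⟨x1, hx1, y1, hy1, x1', hx1', ea⟩ := S.n_TT_eq 0 hσ
  obtain ⟨x2, hx2, y2, hy2, x2', hx2', eb⟩ := S.n_TT_eq 1 hρ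
  -- move the positive parts to the right
  set q₁ := x2⁻¹ * x1' * x2
  have hq₁ : q₁ ∈ S.Q 1 := by
    have := S.L_Q 1 x2⁻¹ (inv_mem (S.X_L 1 hx2)) x1' (S.X0_Q1 hx1')
    rwa [inv_inv] at this
  set q₂ := y2⁻¹ * q₁ * y2
  have hq₂ : q₂ ∈ S.Q 1 := by
    have := S.L_Q 1 y2⁻¹ (inv_mem (S.Y_L 1 hy2)) q₁ hq₁
    rwa [inv_inv] at this
  refine ⟨(x1 * x2)⁻¹, y1 * y2, mul_mem (S.Y_V 0 hy1) (S.Y_V 1 hy2), q₂ * x2' * w * (x1 * x2),
    mul_mem (mul_mem (mul_mem (S.Q_U 1 hq₂) (S.X_U 1 hx2')) hw) (mul_mem (S.X_U 0 hx1) (S.X_U 1 hx2)), ?_⟩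
  calc (x1 * x2)⁻¹ * (a * b * H * w) * ((x1 * x2)⁻¹)⁻¹
      = (x1 * x2)⁻¹ * ((a * σ) * (b * ρ)) * w * (x1 * x2) := by rw [← eH']; group
    _ = x2⁻¹ * (y1 * x2) * q₁ * y2 * x2' * w * (x1 * x2) := by rw [ea, eb]; simp only [q₁]; group
    _ = _ := by rw [(S.X1_Y0 x2 hx2 y1 hy1).symm.eq]; simp only [q₂]; group

/-- Every element is conjugate into V U. -/
theorem good_all (g : G) : S.Good g := by
  obtain ⟨k, p₀, p₁, e, h₀, h₁⟩ := S.cells g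
  refine Good.of_conj S k e ?_
  rcases h₀ with ⟨t, ht, u, hu, rfl⟩ | ⟨t, ht, u, hu, t', ht', u', hu', rfl⟩ <;>
    rcases h₁ with ⟨s, hs, v, hv, rfl⟩ | ⟨s, hs, v, hv, s', hs', v', hv', rfl⟩
  · obtain ⟨u₁, hu₁, e1⟩ := S.T_left S.T_U hs hu
    rw [show t * u * (s * v) = t * (u * s) * v by group, e1, show t * (s * u₁) * v = (t * s) * (u₁ * v) by group]
    exact S.good_B (mul_mem ht hs) (mul_mem hu₁ hv)
  · obtain ⟨u₁, hu₁, e1⟩ := S.T_left S.T_U hs hu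
    rw [show t * u * (s * v * S.n 1 * (s' * v')) = t * (u * s) * v * S.n 1 * (s' * v') by group, e1,
      show t * (s * u₁) * v * S.n 1 * (s' * v') = (t * s) * (u₁ * v) * S.n 1 * (s' * v') by group]
    exact S.good_cell 1 (mul_mem ht hs) (mul_mem hu₁ hv) hs' hv'
  · obtain ⟨u₁, hu₁, e1⟩ := S.T_left S.T_U hs hu'
    rw [show t * u * S.n 0 * (t' * u') * (s * v) = t * u * S.n 0 * (t' * (u' * s) * v) by group, e1,
      show t * u * S.n 0 * (t' * (s * u₁) * v) = t * u * S.n 0 * ((t' * s) * (u₁ * v)) by group]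
    exact S.good_cell 0 ht hu (mul_mem ht' hs) (mul_mem hu₁ hv)
  · exact S.good_ab ht hu ht' hu' hs hv hs' hv'

end Cfsg.Agent.Lib.ReeGauss50.Setup
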