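import Cfsg.Agent.Lib.ReeGauss50.Torus
import Cfsg.Agent.Lib.LieTwisted.Twist.OutSylow
import Cfsg.Agent.Lib.LieTwisted.Twist.F4Out

/-!
The two groups of rank one of ²F₄(q), their fixed tori and the elements carrying one to a commuting
one.
-/

set_option autoImplicit false
set_option maxRecDepth 100000
set_option linter.unusedSectionVars false

namespace Cfsg.Agent.Lib.ReeGauss50.Concrete

open Cfsg.Lie
open Cfsg.Agent.Lib.ChevStructure Cfsg.Agent.Lib.LieTwisted.Twist Cfsg.Agent.Lib.LieTwisted.Twist.F4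
open Cfsg.Agent.Lib.TwMult Cfsg.Agent.Lib.TwMult.F4
open scoped MatrixGroups Matrix

universe u

theorem pprod_Jw {i : Fin 2} {r : Rt chevF4} (hr : r ∈ Jr i) : C.pprod (Jw i) r = r.rev :=
  Fin.ext ((Cert.F4.certified.actW_eq (Jw i) r).trans (Jw_neg i r hr))

theorem pprod_Jw_rev {i : Fin 2} {r : Rt chevF4} (hr : r.rev ∈ Jr i) : C.pprod (Jw i) r = r.rev := by
  have h := pprod_Jw hr
  rw [Fin.rev_rev] at h
  conv_lhs => rw [← h]
  rw [← Equiv.Perm.mul_apply, Jw_inv, Equiv.Perm.one_apply]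

theorem pprod_nodes (L : List (Fin 2)) (r : Rt chevF4) :
    (C.pprod (nodes L) r).val = Data.F4.fast.actW ((nodes L).map Fin.val) r.val :=
  Cert.F4.certified.actW_eq (nodes L) r

theorem DR_dI (i : Fin 2) : DR (dI i) = {r | r ∈ Jr i} :=
  Set.ext fun r => ((dI_spec i).2 r)

variable {K : Type u} [Field K] [Fintype K] {θ : K ≃+* K} {e : ℕ} (F : Th θ e)

include F

theorem inv'_eq (i : Fin 2) : C.inv' ((tw F).wO (oN F i)) = {r | r ∈ Jr i} := inv'_Jw i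

/-- The positive root elements of an orbit. -/
noncomputable abbrev XX (i : Fin 2) : Subgroup ↥(tw F).W := uO (tw F) (oN F i)

/-- The negative root elements of an orbit. -/
noncomputable abbrev YY (i : Fin 2) : Subgroup ↥(tw F).W := uS (tw F) {r | r.rev ∈ Jr i}

/-- The root elements outside an orbit. -/
noncomputable abbrev QQ (i : Fin 2) : Subgroup ↥(tw F).W := uS (tw F) (C.Pos \ C.inv' ((tw F).wO (oN F i)))

/-- The group of rank one of an orbit. -/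
noncomputable abbrev LL (i : Fin 2) : Subgroup ↥(tw F).W := rankOne (tw F) (oN F i)

/-- The reflection of an orbit. -/
noncomputable abbrev nn (i : Fin 2) : ↥(tw F).W := (tw F).nS (oN F i)

theorem mem_XX {i : Fin 2} {x : ↥(tw F).W} :
    x ∈ XX F i ↔ (x : GL chevF4.Idx K) ∈ C.US K {r | r ∈ Jr i} := by
  rw [mem_uS, inv'_eq]

theorem mem_XX_DR {i : Fin 2} {x : ↥(tw F).W} :
    x ∈ XX F i ↔ (x : GL chevF4.Idx K) ∈ C.US K (DR (dI i)) := by
  rw [mem_XX, DR_dI]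

theorem Jr_Pos {i : Fin 2} {r : Rt chevF4} (hr : r ∈ Jr i) : 24 ≤ r.val := (pos_iff24 r).1 (Jr_pos i r hr)

theorem conj_XX (i : Fin 2) {x : ↥(tw F).W} (hx : x ∈ XX F i) : nn F i * x * (nn F i)⁻¹ ∈ YY F i := by
  refine conj_uS (tw F) ((tw F).nO_acts (oN F i)) (fun r hr => ?_) x hx
  rw [inv'_eq] at hr
  show (C.pprod (Jw i) r).rev ∈ Jr i
  rw [pprod_Jw hr, Fin.rev_rev]
  exact hr

theorem conj_YY (i : Fin 2) {y : ↥(tw F).W} (hy : y ∈ YY F i) : (nn F i)⁻¹ * y * nn F i ∈ XX F i := by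
  have h := conj_uS (tw F) (n := (nn F i)⁻¹) (C.acts_inv K ((tw F).nO_acts (oN F i))) (S' := {r | r ∈ Jr i})
    (fun r (hr : r.rev ∈ Jr i) => (?_ : (C.pprod (Jw i))⁻¹ r ∈ Jr i)) y hy
  · rw [inv_inv] at h
    show _ ∈ uS (tw F) (C.inv' ((tw F).wO (oN F i)))
    rwa [inv'_eq]
  · rw [inv_eq_of_mul_eq_one_right (Jw_inv i), pprod_Jw_rev hr]
    exact hr

theorem Y_eq' (i : Fin 2) (x : ↥(tw F).W) : x ∈ XX F i ↔ nn F i * x * (nn F i)⁻¹ ∈ YY F i := by
  refine ⟨conj_XX F i, fun h => ?_⟩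
  simpa [mul_assoc] using conj_YY F i h

theorem YY_le_LL (i : Fin 2) : YY F i ≤ LL F i := by
  intro y hy
  exact Subgroup.mem_sup_right ⟨_, conj_YY F i hy, by show nn F i * _ * (nn F i)⁻¹ = y; group⟩

theorem LL_le_pm (i : Fin 2) : LL F i ≤ uS (tw F) (Jpm i) := by
  refine sup_le (fun x hx => (mem_uS (tw F)).2 (C.US_mono K (fun r (hr : r ∈ Jr i) => Or.inl hr) ((mem_XX F).1 hx))) ?_
  rintro _ ⟨x, hx, rfl⟩
  exact (mem_uS (tw F)).2 (C.US_mono K (fun r (hr : r.rev ∈ Jr i) => Or.inr hr) ((mem_uS (tw F)).1 (conj_XX F i hx)))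

theorem n_eq' (i : Fin 2) : ∃ x ∈ XX F i, ∃ y ∈ YY F i, ∃ x' ∈ XX F i, nn F i = x * y * x' := by
  fin_cases i
  · refine ⟨gPW F 1, (mem_uO0 F).2 ⟨1, rfl⟩, gPW' F 1, ?_, gPW F 1, (mem_uO0 F).2 ⟨1, rfl⟩, Subtype.ext (wprod0_eq F)⟩
    refine (mem_uS (tw F)).2 (mul_mem (C.X_mem_US K ?_ _) (C.X_mem_US K ?_ _))
    · show (R 14).rev ∈ Jr 0
      decide +kernel
    · show (R 23).rev ∈ Jr 0
      decide +kernel
  · refine ⟨gBW F 1 0, (mem_uO1 F).2 ⟨1, 0, rfl⟩, gBW' F 0 1, ?_, gBW F 1 1, (mem_uO1 F).2 ⟨1, 1, rfl⟩,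
      Subtype.ext (wprod1_eq F)⟩
    refine (mem_uS (tw F)).2 (mul_mem (mul_mem (mul_mem (C.X_mem_US K ?_ _) (C.X_mem_US K ?_ _))
      (C.X_mem_US K ?_ _)) (C.X_mem_US K ?_ _))
    · show (R 20).rev ∈ Jr 1
      decide +kernel
    · show (R 22).rev ∈ Jr 1
      decide +kernel
    · show (R 19).rev ∈ Jr 1
      decide +kernel
    · show (R 17).rev ∈ Jr 1
      decide +kernel

theorem n_sq' (i : Fin 2) : nn F i * nn F i ∈ tor (tw F) := by
  refine (mem_tor (tw F)).2 (C.mem_diagonal_of_acts_one (mul_mem ((tw F).nO_mono _) ((tw F).nO_mono _)) ?_)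
  have := C.acts_mul K ((tw F).nO_acts (oN F i)) ((tw F).nO_acts (oN F i))
  rwa [(tw F).J_inv] at this

theorem conj_tor {g h : ↥(tw F).W} (hg : (g : GL chevF4.Idx K) ∈ chevF4.monomialSubgroup K)
    (hh : h ∈ tor (tw F)) : g * h * g⁻¹ ∈ tor (tw F) :=
  (mem_tor (tw F)).2 (C.conj_diagonal hg ((mem_tor (tw F)).1 hh))

/-- The orbit is stable in the sense of the torus. -/
theorem fixes_rev {t : ↥(tw F).W} (ht : t ∈ tor (tw F)) {r : Rt chevF4} (h : Fixes F t r) :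
    Fixes F t r.rev := by
  obtain ⟨χ, hχe⟩ := coe_param F ht
  rw [fixes_iff F hχe] at h ⊢
  have hv : ∀ m, C.v r.rev m = -C.v r m := fun m => congrFun (C.v_rev r) m
  rw [Core.chr] at h ⊢
  simp only [hv, zpow_neg, Finset.prod_inv_distrib, h, inv_one]

theorem fixes_commute {t : ↥(tw F).W} {S : Set (Rt chevF4)} (h : ∀ r ∈ S, Fixes F t r) :
    ∀ g ∈ uS (tw F) S, Commute t g := by
  intro g hg
  have hle : C.US K S ≤ Subgroup.centralizer {(t : GL chevF4.Idx K)} := (Subgroup.closure_le _).2 (by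
    rintro _ ⟨r, hr, a, rfl⟩
    refine Subgroup.mem_centralizer_singleton_iff.2 ?_
    exact (mul_inv_eq_iff_eq_mul.1 (h r hr a)).symm)
  exact Subtype.ext (Subgroup.mem_centralizer_singleton_iff.1 (hle ((mem_uS (tw F)).1 hg))).symm

theorem commute_LL {t : ↥(tw F).W} (ht : t ∈ tor (tw F)) {i : Fin 2} (h : ∀ r ∈ Jr i, Fixes F t r) :
    ∀ g ∈ LL F i, Commute t g := fun g hg => by
  refine fixes_commute F (S := Jpm i) (fun r hr => ?_) g (LL_le_pm F i hg)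
  rcases hr with hr | hr
  · exact h r hr
  · simpa using fixes_rev F ht (h _ hr)

theorem fixes_of_commute_n {t : ↥(tw F).W} (ht : t ∈ tor (tw F)) {i : Fin 2} (hc : Commute (nn F i) t) :
    ∀ r ∈ Jr i, Fixes F t r := by
  haveI := F.two
  intro r hr
  obtain ⟨χ, hχe⟩ := coe_param F ht
  rw [fixes_iff F hχe]
  obtain ⟨c, hc'⟩ := (tw F).nO_acts (oN F i) r
  have hJ : C.pprod ((tw F).J (oN F i)) r = r.rev := pprod_Jw hr
  have e : (tw F).nO (oN F i) * hχ χ = hχ χ * (tw F).nO (oN F i) := by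
    rw [← hχe]; exact congrArg Subtype.val hc.eq
  have h1 := hc' ((C.chr K χ r : Kˣ) : K)
  rw [hJ] at h1
  have h2 : (tw F).nO (oN F i) * C.X K r (C.chr K χ r : K) * ((tw F).nO (oN F i))⁻¹ =
      C.X K r.rev ((C.chr K χ r.rev : K) * ((c : K) * 1)) := by
    rw [← hχ_X, show C.X K r.rev ((c : K) * 1) = (tw F).nO (oN F i) * C.X K r (1 : K) * ((tw F).nO (oN F i))⁻¹ from
      (by rw [hc' 1, hJ]), ← mul_one ((C.chr K χ r : Kˣ) : K), ← hχ_X]
    calc (tw F).nO (oN F i) * (hχ χ * C.X K r 1 * (hχ χ)⁻¹) * ((tw F).nO (oN F i))⁻¹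
        = ((tw F).nO (oN F i) * hχ χ) * C.X K r 1 * ((tw F).nO (oN F i) * hχ χ)⁻¹ := by group
      _ = _ := by rw [e]; group
  rw [h1] at h2
  have h3 := X_inj h2
  rw [mul_one, mul_comm (C.chr K χ r.rev : K)] at h3
  have h4 : C.chr K χ r = C.chr K χ r.rev := Units.ext (mul_left_cancel₀ c.ne_zero h3)
  have hv : C.chr K χ r.rev = (C.chr K χ r)⁻¹ := by
    have hv : ∀ m, C.v r.rev m = -C.v r m := fun m => congrFun (C.v_rev r) m
    simp only [Core.chr, hv, zpow_neg, Finset.prod_inv_distrib]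
  rw [hv, eq_inv_iff_mul_eq_one] at h4
  refine Units.ext (CharTwo.sq_inj.1 ?_)
  rw [Units.val_one, one_pow, sq, ← Units.val_mul, h4, Units.val_one]

/-- The elements of the torus fixing an orbit. -/
theorem exists_hW_of_commute_n {t : ↥(tw F).W} (ht : t ∈ tor (tw F)) {i : Fin 2} (hc : Commute (nn F i) t) :
    ∃ B : Fin 8, B.val = dI i ∧ ∃ w : Kˣ, t = hW' F B w := by
  obtain ⟨r, hr⟩ : ∃ r, r ∈ Jr i := by
    revert i
    intro i _
    fin_cases i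
    · exact ⟨R 24, by decide +kernel⟩
    · exact ⟨R 25, by decide +kernel⟩
  obtain ⟨h24, hd⟩ := ((dI_spec i).2 r).2 hr
  exact ⟨⟨dd (pidx r), dd_pidx_lt r⟩, hd, exists_hW_of_fixes F ht h24 (fixes_of_commute_n F ht hc r hr)⟩

theorem fix_card' (i : Fin 2) :
    Nat.card ↥(tor (tw F) ⊓ Subgroup.centralizer {nn F i} : Subgroup ↥(tw F).W) ≤ Fintype.card K - 1 := by
  have h : ∀ z : ↥(tor (tw F) ⊓ Subgroup.centralizer {nn F i} : Subgroup ↥(tw F).W),
      ∃ w : Kˣ, z.1 = hW' F ⟨dI i, (dI_spec i).1⟩ w := fun z => by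
    obtain ⟨h1, h2⟩ := Subgroup.mem_inf.1 z.2
    obtain ⟨B, hB, w, hw⟩ := exists_hW_of_commute_n F h1
      (i := i) (Subgroup.mem_centralizer_singleton_iff.1 h2).symm
    exact ⟨w, by rw [hw]; congr; exact Fin.ext hB⟩
  choose f hf using h
  refine (Nat.card_le_card_of_injective f fun a b e => Subtype.ext (by rw [hf a, hf b, e])).trans (le_of_eq ?_)
  rw [Nat.card_units, Nat.card_eq_fintype_card]

theorem free' (i : Fin 2) {z : ↥(tw F).W} (hz : z ∈ tor (tw F)) {x : ↥(tw F).W} (hx : x ∈ XX F i) (hx1 : x ≠ 1)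
    (hc : Commute z x) : Commute (nn F i) z := by
  refine (commute_LL F hz (fun r hr => ?_) _ (nS_mem F i)).symm
  by_cases hz1 : z = 1
  · intro a; simp [hz1]
  obtain ⟨B, w, hw1, rfl, hu⟩ := exists_dir F hz hz1 (uO_le (tw F) _ hx) hx1 hc
  obtain ⟨h24, hd⟩ := ((dI_spec i).2 r).2 hr
  have hB : B.val = dI i := by
    by_contra hne
    refine hx1 (Subtype.ext (hB_free F B.2 (Ne.symm hne) hw1 ((mem_XX_DR F).1 hx) ?_))
    show ((hW' F B w : ↥(tw F).W) : GL chevF4.Idx K) * x * ((hW' F B w : ↥(tw F).W) : GL chevF4.Idx K)⁻¹ = x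
    rw [← Subgroup.coe_inv, ← Subgroup.coe_mul, ← Subgroup.coe_mul, hc.eq, mul_inv_cancel_right]
  intro a
  exact hB_fix F w h24 (hd.trans hB.symm) a

theorem freeQ' (i : Fin 2) {z : ↥(tw F).W} (hz : z ∈ tor (tw F)) (hz1 : z ≠ 1) (hn : Commute (nn F i) z)
    {q : ↥(tw F).W} (hq : q ∈ QQ F i) (hc : Commute z q) : q = 1 := by
  by_contra hq1
  have hqU : q ∈ uS (tw F) C.Pos := (mem_uS (tw F)).2 (C.US_mono K (fun _ hr => hr.1) ((mem_uS (tw F)).1 hq))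
  obtain ⟨B, w, hw1, rfl, hu⟩ := exists_dir F hz hz1 hqU hq1 hc
  obtain ⟨r, hr⟩ : ∃ r, r ∈ Jr i := by
    fin_cases i
    · exact ⟨R 24, by decide +kernel⟩
    · exact ⟨R 25, by decide +kernel⟩
  obtain ⟨h24, hd⟩ := ((dI_spec i).2 r).2 hr
  have hB : B.val = dI i :=
    (dir_of_fixes F hw1 h24 (fixes_of_commute_n F hz hn r hr)).symm.trans hd
  have hqX : q ∈ XX F i := by
    rw [mem_XX_DR, ← hB]
    exact (mem_uS (tw F)).1 hu
  have : q ∈ QQ F i ⊓ (LL F i ⊔ tor (tw F)) :=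
    Subgroup.mem_inf.2 ⟨hq, Subgroup.mem_sup_left (Subgroup.mem_sup_left hqX)⟩
  rw [off_inf_rankOne, Subgroup.mem_bot] at this
  exact hq1 this

/-- An element of a word in the reflections. -/
noncomputable def nwd (L : List (Fin 2)) : ↥(tw F).W := (L.map fun i => nn F i).prod

theorem nwd_spec : ∀ L : List (Fin 2),
    C.Acts (nwd F L : GL chevF4.Idx K) (C.pprod (nodes L)) ∧
      (nwd F L : GL chevF4.Idx K) ∈ chevF4.monomialSubgroup K
  | [] => by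
    refine ⟨fun r => ⟨1, fun t => by simp [nwd, nodes, Core.pprod]⟩, ?_⟩
    simp only [nwd, List.map_nil, List.prod_nil]
    exact one_mem _
  | i :: L => by
    obtain ⟨h1, h2⟩ := nwd_spec L
    rw [nwd, List.map_cons, List.prod_cons, Subgroup.coe_mul,
      show nodes (i :: L) = Jw i ++ nodes L by simp [nodes], C.pprod_append]
    exact ⟨C.acts_mul K ((tw F).nO_acts (oN F i)) h1, mul_mem ((tw F).nO_mono (oN F i)) h2⟩

/-- The element carrying an orbit to the commuting one. -/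
noncomputable def ww (i : Fin 2) : ↥(tw F).W := nwd F (oW i)

theorem w_comm' (i : Fin 2) {k : ↥(tw F).W} (hk : k ∈ LL F i) {l : ↥(tw F).W} (hl : l ∈ LL F i) :
    Commute (ww F i * k * (ww F i)⁻¹) l := by
  set S : Set (Rt chevF4) := {r' | ∃ r, (r ∈ Jr i ∨ r.rev ∈ Jr i) ∧
    r'.val = Data.F4.fast.actW ((nodes (oW i)).map Fin.val) r.val}
  have h1 : ww F i * k * (ww F i)⁻¹ ∈ uS (tw F) S :=
    conj_uS (tw F) (nwd_spec F (oW i)).1 (fun r (hr : r ∈ Jpm i) => (⟨r, hr, pprod_nodes _ r⟩ : ∃ r₀, (r₀ ∈ Jr i ∨ r₀.rev ∈ Jr i) ∧ _ = Data.F4.fast.actW ((nodes (oW i)).map Fin.val) r₀.val)) k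
      (LL_le_pm F i hk)
  have h2 := (mem_uS (tw F)).1 (LL_le_pm F i hl)
  have hle : C.US K (Jpm i) ≤ Subgroup.centralizer (C.US K S : Set (GL chevF4.Idx K)) := by
    refine (Subgroup.closure_le _).2 ?_
    rintro _ ⟨s, hs, a, rfl⟩
    refine Subgroup.mem_centralizer_iff.2 fun g hg => ?_
    have hle' : C.US K S ≤ Subgroup.centralizer {C.X K s a} := (Subgroup.closure_le _).2 (by
      rintro _ ⟨r', ⟨r, hr, hr'⟩, b, rfl⟩
      exact Subgroup.mem_centralizer_singleton_iff.2 (commute_com F (oW_com i r hr s hs r' hr') b a).eq)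
    exact Subgroup.mem_centralizer_singleton_iff.1 (hle' hg)
  exact Subtype.ext (Subgroup.mem_centralizer_iff.1 (hle h2) _ ((mem_uS (tw F)).1 h1))

theorem w_U' (i : Fin 2) {x : ↥(tw F).W} (hx : x ∈ XX F i) : ww F i * x * (ww F i)⁻¹ ∈ uS (tw F) C.Pos := by
  refine conj_uS (tw F) (nwd_spec F (oW i)).1 (fun r hr => ?_) x hx
  rw [inv'_eq] at hr
  rw [pos_iff24, pprod_nodes]
  exact (oW_spec i r).1 hr

theorem w_V' (i : Fin 2) {y : ↥(tw F).W} (hy : y ∈ YY F i) : ww F i * y * (ww F i)⁻¹ ∈ uS (tw F) C.Neg := by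
  refine conj_uS (tw F) (nwd_spec F (oW i)).1 (fun r hr => ?_) y hy
  rw [C.neg_iff_not_pos, pos_iff24, pprod_nodes, not_le]
  exact (oW_spec i r).2 hr

theorem line' {t u : ↥(tw F).W} (ht : t ∈ tor (tw F)) (ht1 : t ≠ 1) (hu : u ∈ uS (tw F) C.Pos) (hu1 : u ≠ 1)
    (hc : Commute t u) : ∃ i, ∃ g : ↥(tw F).W, g * t * g⁻¹ ∈ tor (tw F) ∧ g * u * g⁻¹ ∈ XX F i := by
  obtain ⟨B, w, -, -, hu'⟩ := exists_dir F ht ht1 hu hu1 hc
  refine ⟨(dW B).2, nwd F (dW B).1, conj_tor F (nwd_spec F _).2 ht, ?_⟩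
  refine conj_uS (tw F) (nwd_spec F _).1 (fun r hr => ?_) u hu'
  obtain ⟨r', hr', e'⟩ := dW_spec B r hr.1 hr.2
  rw [inv'_eq]
  show C.pprod (nodes (dW B).1) r ∈ Jr (dW B).2
  rw [show C.pprod (nodes (dW B).1) r = r' from Fin.ext ((pprod_nodes _ r).trans e')]
  exact hr'

theorem L_Q' (i : Fin 2) {k : ↥(tw F).W} (hk : k ∈ LL F i) {q : ↥(tw F).W} (hq : q ∈ QQ F i) :
    k * q * k⁻¹ ∈ QQ F i := by
  let T := tw F
  let m : Fin T.nn := oN F i
  have hUc : QQ F i ≤ uS T C.Pos := fun _ h => (mem_uS T).2 (C.US_mono K (fun _ hr => hr.1) ((mem_uS T).1 h))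
  have hX : ∀ a ∈ uO T m, ∀ q ∈ QQ F i, a * q * a⁻¹ ∈ QQ F i := by
    intro a ha q hq
    obtain ⟨a5, ha5, c5, hc5, e5⟩ := exists_split T m (a * q * a⁻¹)
      (mul_mem (mul_mem (uO_le T m ha) (hUc hq)) (inv_mem (uO_le T m ha)))
    have hlev := fun {x : ↥T.W} (hx : x ∈ uO T m) =>
      Subgroup.mem_subgroupOf.1 (rankOne_le_level T m (Subgroup.mem_sup_left hx))
    have hA := fun {x : ↥T.W} (hx : x ∈ QQ F i) =>
      US_le_raise C (outμ T m) K (fun r hr => lev_off T m hr) ((mem_uS T).1 hx)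
    have h5 : c5 = a5⁻¹ * (a * q * a⁻¹) := by rw [e5]; group
    have hup : (c5 : GL chevF4.Idx K) ∈ upperU K (fun a => lev (outμ T m) (C.wt a)) 0 le_rfl := by
      rw [h5, Subgroup.coe_mul, Subgroup.coe_inv, Subgroup.coe_mul, Subgroup.coe_mul, Subgroup.coe_inv]
      exact mul_mem (inv_mem (hA ha5)) (upperU_conj (hlev ha) (hA hq))
    have h6 : (c5 : GL chevF4.Idx K) ∈ levelGroup C (outμ T m) K ⊓
        upperU K (fun a => lev (outμ T m) (C.wt a)) 0 le_rfl := Subgroup.mem_inf.2 ⟨hlev hc5, hup⟩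
    rw [levelGroup_inf_raise, Subgroup.mem_bot] at h6
    rw [e5, show c5 = 1 from Subtype.ext h6, mul_one]
    exact ha5
  have hn : ∀ q ∈ QQ F i, T.nS m * q * (T.nS m)⁻¹ ∈ QQ F i :=
    conj_uS T (T.nO_acts m) fun _ hr => wO_off T m hr
  rcases exists_form T (hq := Fintype.one_lt_card) m (nS_mem F i) k hk with
    ⟨a, ha, h, hh, rfl⟩ | ⟨a, ha, b, hb, h, hh, rfl⟩
  · rw [show a * h * q * (a * h)⁻¹ = a * (h * q * h⁻¹) * a⁻¹ by group]
    exact hX a ha _ (tor_conj_uS T _ h hh q hq)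
  · rw [show a * T.nS m * b * h * q * (a * T.nS m * b * h)⁻¹ =
      a * (T.nS m * (b * (h * q * h⁻¹) * b⁻¹) * (T.nS m)⁻¹) * a⁻¹ by group]
    exact hX a ha _ (hn _ (hX b hb _ (tor_conj_uS T _ h hh q hq)))

end Cfsg.Agent.Lib.ReeGauss50.Concrete
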