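import Cfsg.Agent.Lib.ReeGauss50.Basic
import Mathlib.Tactic.Push
import Mathlib.Tactic.Linarith
import Mathlib.Tactic.Ring

/-!
An abstract group of rank two with two rank one subgroups: tori of the rank one subgroups and the
conjugation of their elements into products of an opposite and a positive root element.
-/

set_option autoImplicit false
set_option linter.unusedSectionVars false

namespace Cfsg.Agent.Lib.ReeGauss50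

/-- The data used to conjugate all elements into `V U`. -/
structure Setup (G : Type*) [Group G] where
  U : Subgroup G
  V : Subgroup G
  T : Subgroup G
  X : Fin 2 → Subgroup G
  Y : Fin 2 → Subgroup G
  Q : Fin 2 → Subgroup G
  L : Fin 2 → Subgroup G
  n : Fin 2 → G
  w : Fin 2 → G
  N0 : ℕ
  N0_gt : 1 < N0
  U_pgroup : IsPGroup 2 U
  T_comm : ∀ a ∈ T, ∀ b ∈ T, a * b = b * a
  T_odd : Odd (Nat.card T)
  T_card : Nat.card T = N0 * N0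
  T_U : ∀ t ∈ T, ∀ u ∈ U, t * u * t⁻¹ ∈ U
  T_X : ∀ i, ∀ t ∈ T, ∀ u ∈ X i, t * u * t⁻¹ ∈ X i
  T_Y : ∀ i, ∀ t ∈ T, ∀ u ∈ Y i, t * u * t⁻¹ ∈ Y i
  T_Q : ∀ i, ∀ t ∈ T, ∀ u ∈ Q i, t * u * t⁻¹ ∈ Q i
  BV : ∀ t ∈ T, ∀ u ∈ U, t * u ∈ V → t = 1 ∧ u = 1
  X_U : ∀ i, X i ≤ U
  Y_V : ∀ i, Y i ≤ V
  Q_U : ∀ i, Q i ≤ U
  X_L : ∀ i, X i ≤ L i
  Y_L : ∀ i, Y i ≤ L i
  n_L : ∀ i, n i ∈ L i
  Y_eq : ∀ i x, x ∈ X i ↔ n i * x * (n i)⁻¹ ∈ Y i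
  n_T : ∀ i, ∀ h ∈ T, n i * h * (n i)⁻¹ ∈ T
  n_sq : ∀ i, n i * n i ∈ T
  n_eq : ∀ i, ∃ x ∈ X i, ∃ y ∈ Y i, ∃ x' ∈ X i, n i = x * y * x'
  L_Q : ∀ i, ∀ k ∈ L i, ∀ q ∈ Q i, k * q * k⁻¹ ∈ Q i
  split : ∀ i, ∀ u ∈ U, ∃ x ∈ X i, ∃ q ∈ Q i, u = x * q
  L_form : ∀ i, ∀ k ∈ L i, (∃ a ∈ X i, ∃ h ∈ T, k = a * h) ∨
    (∃ a ∈ X i, ∃ b ∈ X i, ∃ h ∈ T, k = a * n i * b * h)
  L_T_fix : ∀ i, ∀ h ∈ T, h ∈ L i → Commute (n i) h → h = 1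
  indep : ∀ h ∈ T, h ∈ L 0 → h ∈ L 1 → h = 1
  fix_comm : ∀ i, ∀ z ∈ T, Commute (n i) z → ∀ x ∈ X i, Commute z x
  free : ∀ i, ∀ z ∈ T, ∀ x ∈ X i, x ≠ 1 → Commute z x → Commute (n i) z
  freeQ : ∀ i, ∀ z ∈ T, z ≠ 1 → Commute (n i) z → ∀ q ∈ Q i, Commute z q → q = 1
  fix_card : ∀ i, Nat.card ↥(T ⊓ Subgroup.centralizer {n i} : Subgroup G) ≤ N0
  line : ∀ t ∈ T, t ≠ 1 → ∀ u ∈ U, u ≠ 1 → Commute t u →
    ∃ i, ∃ g : G, g * t * g⁻¹ ∈ T ∧ g * u * g⁻¹ ∈ X i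
  w_T : ∀ i, ∀ h ∈ T, w i * h * (w i)⁻¹ ∈ T
  w_comm : ∀ i, ∀ k ∈ L i, ∀ l ∈ L i, Commute (w i * k * (w i)⁻¹) l
  w_U : ∀ i, ∀ x ∈ X i, w i * x * (w i)⁻¹ ∈ U
  w_V : ∀ i, ∀ y ∈ Y i, w i * y * (w i)⁻¹ ∈ V
  X0_Q1 : X 0 ≤ Q 1
  X1_Y0 : ∀ x ∈ X 1, ∀ y ∈ Y 0, Commute x y
  X_card : ∀ i, ∀ p : ℕ, p.Prime → Odd p → p ∣ N0 → ¬ p ∣ Nat.card ↥(X i) + 1
  cells : ∀ g : G, ∃ k p₀ p₁ : G, k * g * k⁻¹ = p₀ * p₁ ∧
    ((∃ t ∈ T, ∃ u ∈ U, p₀ = t * u) ∨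
      (∃ t ∈ T, ∃ u ∈ U, ∃ t' ∈ T, ∃ u' ∈ U, p₀ = t * u * n 0 * (t' * u'))) ∧
    ((∃ t ∈ T, ∃ u ∈ U, p₁ = t * u) ∨
      (∃ t ∈ T, ∃ u ∈ U, ∃ t' ∈ T, ∃ u' ∈ U, p₁ = t * u * n 1 * (t' * u')))

namespace Setup

variable {G : Type*} [Group G] (S : Setup G) (i : Fin 2)

/-- The torus elements fixed by the reflection. -/
def ZZ : Subgroup G := S.T ⊓ Subgroup.centralizer {S.n i}

/-- The torus elements inverted by the reflection. -/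
def TT : Subgroup G where
  carrier := {h | h ∈ S.T ∧ S.n i * h * (S.n i)⁻¹ = h⁻¹}
  one_mem' := ⟨one_mem _, by simp⟩
  mul_mem' := fun {a b} ha hb => ⟨mul_mem ha.1 hb.1, by
    rw [show S.n i * (a * b) * (S.n i)⁻¹ = (S.n i * a * (S.n i)⁻¹) * (S.n i * b * (S.n i)⁻¹) by group, ha.2, hb.2,
      mul_inv_rev, S.T_comm _ (inv_mem ha.1) _ (inv_mem hb.1)]⟩
  inv_mem' := fun {a} ha => ⟨inv_mem ha.1, by
    rw [show S.n i * a⁻¹ * (S.n i)⁻¹ = (S.n i * a * (S.n i)⁻¹)⁻¹ by group, ha.2]⟩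

theorem mem_TT {h : G} : h ∈ S.TT i ↔ h ∈ S.T ∧ S.n i * h * (S.n i)⁻¹ = h⁻¹ := Iff.rfl

theorem mem_ZZ {h : G} : h ∈ S.ZZ i ↔ h ∈ S.T ∧ Commute (S.n i) h :=
  Subgroup.mem_inf.trans (and_congr_right' (Subgroup.mem_centralizer_singleton_iff.trans
    ⟨fun e => e.symm, fun e => e.symm⟩))

theorem n_inv_T {h : G} (hh : h ∈ S.T) : (S.n i)⁻¹ * h * S.n i = S.n i * h * (S.n i)⁻¹ := by
  have e := S.T_comm _ (S.n_sq i) _ (S.n_T i h hh)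
  calc (S.n i)⁻¹ * h * S.n i
      = (S.n i * S.n i)⁻¹ * ((S.n i * h * (S.n i)⁻¹) * (S.n i * S.n i)) := by group
    _ = _ := by rw [← e, inv_mul_cancel_left]

theorem n_inv_TT {h : G} (hh : h ∈ S.TT i) : (S.n i)⁻¹ * h * S.n i = h⁻¹ := by
  rw [S.n_inv_T i hh.1]; exact hh.2

theorem T_n {h : G} (hh : h ∈ S.TT i) : h * S.n i = S.n i * h⁻¹ := by
  rw [← S.n_inv_TT i hh]; group

theorem T_inv {t u : G} {H : Subgroup G} (hH : ∀ t ∈ S.T, ∀ u ∈ H, t * u * t⁻¹ ∈ H) (ht : t ∈ S.T) (hu : u ∈ H) :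
    t⁻¹ * u * t ∈ H := by
  have := hH _ (inv_mem ht) u hu
  rwa [inv_inv] at this

theorem n_inv_X {x : G} (hx : x ∈ S.X i) : (S.n i)⁻¹ * x * S.n i ∈ S.Y i := by
  rw [show (S.n i)⁻¹ * x * S.n i = (S.n i * S.n i)⁻¹ * (S.n i * x * (S.n i)⁻¹) * (S.n i * S.n i) by group]
  exact S.T_inv (S.T_Y i) (S.n_sq i) ((S.Y_eq i x).1 hx)

theorem n_inv_Y {y : G} (hy : y ∈ S.Y i) : (S.n i)⁻¹ * y * S.n i ∈ S.X i := by
  rw [S.Y_eq, show S.n i * ((S.n i)⁻¹ * y * S.n i) * (S.n i)⁻¹ = y by group]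
  exact hy

theorem sq_eq_one {h : G} (hh : h ∈ S.T) (e : h * h = 1) : h = 1 := by
  have h2 : orderOf h ∣ 2 := orderOf_dvd_of_pow_eq_one (by rw [pow_two, e])
  have h1 : orderOf h ∣ Nat.card S.T := by rw [← Subgroup.orderOf_mk h hh]; exact orderOf_dvd_natCard _
  exact orderOf_eq_one_iff.1 (Nat.eq_one_of_dvd_coprimes (Nat.coprime_two_left.2 S.T_odd) h2 h1)

theorem TT_inf_ZZ {h : G} (h1 : h ∈ S.TT i) (h2 : h ∈ S.ZZ i) : h = 1 := by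
  refine S.sq_eq_one h1.1 ?_
  have e := h1.2
  rw [((S.mem_ZZ i).1 h2).2.eq, mul_inv_cancel_right] at e
  conv_lhs => arg 2; rw [e]
  exact mul_inv_cancel h

theorem U_inf_T {h : G} (hU : h ∈ S.U) (hT : h ∈ S.T) : h = 1 :=
  (S.BV h hT h⁻¹ (inv_mem hU) (by rw [mul_inv_cancel]; exact one_mem _)).1

theorem B_V {t u : G} (ht : t ∈ S.T) (hu : u ∈ S.U) (h : u * t ∈ S.V) : u = 1 ∧ t = 1 := by
  obtain ⟨h1, h2⟩ := S.BV t ht (t⁻¹ * u * t) (S.T_inv S.T_U ht hu) (by rwa [← mul_assoc, mul_inv_cancel_left])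
  subst h1
  exact ⟨by simpa using h2, rfl⟩

theorem eq_one_odd {a : G} (ha : a ∈ S.U) (h : Odd (orderOf a)) : a = 1 := by
  obtain ⟨k, hk⟩ := S.U_pgroup ⟨a, ha⟩
  have h2 : orderOf a ∣ 2 ^ k := orderOf_dvd_of_pow_eq_one (congrArg Subtype.val hk)
  exact orderOf_eq_one_iff.1 (Nat.eq_one_of_dvd_coprimes
    (Nat.Coprime.pow_right k (Nat.coprime_two_right.2 h)) dvd_rfl h2)

variable [Finite G]

theorem pow_root {h : G} (hh : h ∈ S.T) :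
    ∃ r ∈ S.T, r * r = h ∧ r = h ^ ((Nat.card ↥S.T + 1) / 2) :=
  ⟨_, pow_mem hh _, sq_root S.T_odd hh, rfl⟩

theorem exists_TT_ZZ {h : G} (hh : h ∈ S.T) : ∃ s ∈ S.TT i, ∃ z ∈ S.ZZ i, h = s * z := by
  set n := S.n i
  set h' := n * h * n⁻¹ with hh'def
  have hh' : h' ∈ S.T := S.n_T i h hh
  have en : n * h' * n⁻¹ = h := by
    have e := S.T_comm _ (S.n_sq i) _ hh
    calc n * h' * n⁻¹ = n * n * h * (n * n)⁻¹ := by simp only [h']; group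
      _ = _ := by rw [e, mul_inv_cancel_right]
  set k := (Nat.card ↥S.T + 1) / 2
  refine ⟨(h * h'⁻¹) ^ k, ⟨pow_mem (mul_mem hh (inv_mem hh')) _, ?_⟩, (h * h') ^ k,
    (S.mem_ZZ i).2 ⟨pow_mem (mul_mem hh hh') _, ?_⟩, ?_⟩
  · rw [← conj_pow, show n * (h * h'⁻¹) * n⁻¹ = (n * h * n⁻¹) * (n * h' * n⁻¹)⁻¹ by group, en, ← hh'def,
      ← inv_pow, mul_inv_rev, inv_inv]
  · show n * _ = _ * n
    rw [← mul_inv_eq_iff_eq_mul, ← conj_pow, show n * (h * h') * n⁻¹ = (n * h * n⁻¹) * (n * h' * n⁻¹) by group,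
      en, ← hh'def, S.T_comm _ hh' _ hh]
  · have hc : Commute (h * h'⁻¹) (h * h') := S.T_comm _ (mul_mem hh (inv_mem hh')) _ (mul_mem hh hh')
    rw [← hc.mul_pow, show h * h'⁻¹ * (h * h') = h * h by
      rw [mul_assoc, ← mul_assoc h'⁻¹, S.T_comm _ (inv_mem hh') _ hh, mul_assoc h, inv_mul_cancel, mul_one],
      ← pow_two, ← pow_mul, mul_comm 2, pow_mul, pow_two, sq_root S.T_odd hh]

/-- The inverted elements are commutators with the reflection. -/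
theorem exists_comm_eq {h : G} (hh : h ∈ S.TT i) : ∃ s ∈ S.T, S.n i * h = s * S.n i * s⁻¹ := by
  obtain ⟨r, hr, er, hrk⟩ := S.pow_root (inv_mem hh.1)
  refine ⟨r, hr, ?_⟩
  have hrT : r ∈ S.TT i := by rw [hrk]; exact pow_mem (inv_mem hh) _
  rw [S.T_n i hrT, mul_assoc, ← mul_inv_rev, er, inv_inv]

theorem n_TT_eq {h : G} (hh : h ∈ S.TT i) :
    ∃ x ∈ S.X i, ∃ y ∈ S.Y i, ∃ x' ∈ S.X i, S.n i * h = x * y * x' := by
  obtain ⟨s, hs, e⟩ := S.exists_comm_eq i hh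
  obtain ⟨x, hx, y, hy, x', hx', en⟩ := S.n_eq i
  exact ⟨_, S.T_X i s hs x hx, _, S.T_Y i s hs y hy, _, S.T_X i s hs x' hx', by rw [e, en]; group⟩

theorem TT_le_L : S.TT i ≤ S.L i := by
  intro h hh
  obtain ⟨x, hx, y, hy, x', hx', e⟩ := S.n_TT_eq i hh
  rw [← inv_mul_cancel_left (S.n i) h, e]
  exact mul_mem (inv_mem (S.n_L i)) (mul_mem (mul_mem (S.X_L i hx) (S.Y_L i hy)) (S.X_L i hx'))

theorem TT_of_mem_L {h : G} (hh : h ∈ S.T) (hL : h ∈ S.L i) : h ∈ S.TT i := by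
  obtain ⟨s, hs, z, hz, rfl⟩ := S.exists_TT_ZZ i hh
  have hzL : z ∈ S.L i := by
    simpa using mul_mem (inv_mem (S.TT_le_L i hs)) hL
  rw [S.L_T_fix i z ((S.mem_ZZ i).1 hz).1 hzL ((S.mem_ZZ i).1 hz).2, mul_one]
  exact hs

theorem TT_free_X {h : G} (hh : h ∈ S.TT i) (h1 : h ≠ 1) : ∀ x ∈ S.X i, Commute h x → x = 1 := by
  intro x hx hc
  by_contra hx1
  exact h1 (S.TT_inf_ZZ i hh ((S.mem_ZZ i).2 ⟨hh.1, S.free i h hh.1 x hx hx1 hc⟩))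

theorem TT_free_Y {h : G} (hh : h ∈ S.TT i) (h1 : h ≠ 1) : ∀ y ∈ S.Y i, Commute h y → y = 1 := by
  intro y hy hc
  have hc' : Commute ((S.n i)⁻¹ * h * S.n i) ((S.n i)⁻¹ * y * S.n i) := by
    simpa using hc.map (MulAut.conj (S.n i)⁻¹).toMonoidHom
  rw [S.n_inv_TT i hh] at hc'
  have := S.TT_free_X i (inv_mem hh) (inv_ne_one.2 h1) _ (S.n_inv_Y i hy) hc'
  simpa using conj_eq_one_iff.1 (show (S.n i)⁻¹ * y * ((S.n i)⁻¹)⁻¹ = 1 by rwa [inv_inv])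

theorem ZZ_comm_L {z : G} (hz : z ∈ S.ZZ i) {k : G} (hk : k ∈ S.L i) : Commute z k := by
  obtain ⟨hzT, hzn⟩ := (S.mem_ZZ i).1 hz
  have hX := S.fix_comm i z hzT hzn
  have hT : ∀ h ∈ S.T, Commute z h := fun h hh => S.T_comm z hzT h hh
  rcases S.L_form i k hk with ⟨a, ha, h, hh, rfl⟩ | ⟨a, ha, b, hb, h, hh, rfl⟩
  · exact (hX a ha).mul_right (hT h hh)
  · exact (((hX a ha).mul_right hzn.symm).mul_right (hX b hb)).mul_right (hT h hh)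

theorem card_TT_mul : Nat.card ↥(S.TT i) * Nat.card ↥(S.ZZ i) = S.N0 * S.N0 := by
  rw [← S.T_card, ← Nat.card_prod]
  refine Nat.card_congr (Equiv.ofBijective (fun x : ↥(S.TT i) × ↥(S.ZZ i) =>
    (⟨x.1.1 * x.2.1, mul_mem x.1.2.1 ((S.mem_ZZ i).1 x.2.2).1⟩ : ↥S.T)) ⟨?_, ?_⟩)
  · intro a b e
    have e' : a.1.1 * a.2.1 = b.1.1 * b.2.1 := congrArg Subtype.val e
    have h1 : b.1.1⁻¹ * a.1.1 = b.2.1 * a.2.1⁻¹ := by
      rw [eq_mul_inv_iff_mul_eq, mul_assoc, e', inv_mul_cancel_left]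
    have h2 : a.1.1 = b.1.1 := (inv_mul_eq_one.1 (S.TT_inf_ZZ i (mul_mem (inv_mem b.1.2) a.1.2)
      (h1 ▸ mul_mem b.2.2 (inv_mem a.2.2)))).symm
    exact Prod.ext (Subtype.ext h2) (Subtype.ext (mul_left_cancel (h2 ▸ e' : b.1.1 * a.2.1 = b.1.1 * b.2.1)))
  · rintro ⟨h, hh⟩
    obtain ⟨s, hs, z, hz, e⟩ := S.exists_TT_ZZ i hh
    exact ⟨(⟨s, hs⟩, ⟨z, hz⟩), Subtype.ext e.symm⟩

theorem N0_le_TT : S.N0 ≤ Nat.card ↥(S.TT i) := by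
  have h1 : Nat.card ↥(S.ZZ i) ≤ S.N0 := S.fix_card i
  have h2 := S.card_TT_mul i
  have h3 := S.N0_gt
  by_contra h
  have h' : Nat.card ↥(S.TT i) < S.N0 := Nat.lt_of_not_le h
  have h5 := Nat.mul_le_mul_left (Nat.card ↥(S.TT i)) h1
  have h6 := Nat.mul_lt_mul_of_pos_right h' (show 0 < S.N0 by omega)
  omega

/-- The fixed elements are the carried inverted elements. -/
theorem ZZ_eq_conj {z : G} (hz : z ∈ S.ZZ i) : ∃ h ∈ S.TT i, z = S.w i * h * (S.w i)⁻¹ := by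
  have hmem : ∀ h : ↥(S.TT i), S.w i * h.1 * (S.w i)⁻¹ ∈ S.ZZ i := fun h =>
    (S.mem_ZZ i).2 ⟨S.w_T i _ h.2.1, (S.w_comm i _ (S.TT_le_L i h.2) _ (S.n_L i)).symm⟩
  let f : ↥(S.TT i) → ↥(S.ZZ i) := fun h => ⟨_, hmem h⟩
  have hf : Function.Injective f := fun a b e =>
    Subtype.ext (mul_left_cancel (mul_right_cancel (congrArg Subtype.val e)))
  obtain ⟨h, hh⟩ := (hf.bijective_of_nat_card_le ((S.fix_card i).trans (S.N0_le_TT i))).2 ⟨z, hz⟩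
  exact ⟨h.1, h.2, (congrArg Subtype.val hh).symm⟩

theorem card_ZZ : Nat.card ↥(S.ZZ i) = S.N0 ∧ Nat.card ↥(S.TT i) = S.N0 := by
  have h1 : Nat.card ↥(S.ZZ i) ≤ S.N0 := S.fix_card i
  have h2 := S.N0_le_TT i
  have h3 := S.card_TT_mul i
  have h4 := S.N0_gt
  have h5 : Nat.card ↥(S.TT i) ≤ Nat.card ↥(S.ZZ i) := by
    refine Nat.card_le_card_of_injective (fun h : ↥(S.TT i) => (⟨S.w i * h.1 * (S.w i)⁻¹,
      (S.mem_ZZ i).2 ⟨S.w_T i _ h.2.1, (S.w_comm i _ (S.TT_le_L i h.2) _ (S.n_L i)).symm⟩⟩ : ↥(S.ZZ i)))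
      fun a b e => Subtype.ext (mul_left_cancel (mul_right_cancel (congrArg Subtype.val e)))
  omega

/-- Every element of a rank one group is conjugate to the product of an opposite and a positive root
element. -/
theorem conj_YX {k : G} (hk : k ∈ S.L i) :
    ∃ j ∈ S.L i, ∃ y ∈ S.Y i, ∃ x ∈ S.X i, j * k * j⁻¹ = y * x := by
  have cellc : ∀ h ∈ S.TT i, ∀ c ∈ S.X i,
      ∃ j ∈ S.L i, ∃ y ∈ S.Y i, ∃ x ∈ S.X i, j * (S.n i * h * c) * j⁻¹ = y * x := by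
    intro h hh c hc
    obtain ⟨x1, hx1, y, hy, x2, hx2, e⟩ := S.n_TT_eq i hh
    exact ⟨x1⁻¹, inv_mem (S.X_L i hx1), y, hy, x2 * c * x1, mul_mem (mul_mem hx2 hc) hx1, by rw [e]; group⟩
  rcases S.L_form i k hk with ⟨a, ha, h, hh, e⟩ | ⟨a, ha, b, hb, h, hh, e⟩
  · by_cases h1 : h = 1
    · exact ⟨1, one_mem _, 1, one_mem _, a, ha, by simp [e, h1]⟩
    have hhL : h ∈ S.L i := by
      rw [show h = a⁻¹ * k by rw [e, inv_mul_cancel_left]]; exact mul_mem (inv_mem (S.X_L i ha)) hk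
    have hT := S.TT_of_mem_L i hh hhL
    obtain ⟨p, hp, ep⟩ := conj_of_free (S.X i) (x := h) (S.T_X i h hh) (S.TT_free_X i hT h1) ha
    obtain ⟨x1, hx1, y, hy, x2, hx2, en⟩ := S.n_eq i
    obtain ⟨r, hr, er⟩ := conj_of_free (S.Y i) (x := h) (S.T_Y i h hh) (S.TT_free_Y i hT h1) hy
    -- y h is conjugate into the cell
    set c := h⁻¹ * x2⁻¹ * h * x1⁻¹
    have hc : c ∈ S.X i := mul_mem (S.T_inv (S.T_X i) hh (inv_mem hx2)) (inv_mem hx1)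
    obtain ⟨j, hj, y', hy', x', hx', ej⟩ := cellc h hT c hc
    refine ⟨j * x1 * r * p⁻¹, mul_mem (mul_mem (mul_mem hj (S.X_L i hx1)) (S.Y_L i hr)) (inv_mem (S.X_L i hp)),
      y', hy', x', hx', ?_⟩
    rw [← ej, e, ← ep,
      show j * x1 * r * p⁻¹ * (p * h * p⁻¹) * (j * x1 * r * p⁻¹)⁻¹ = j * (x1 * (r * h * r⁻¹) * x1⁻¹) * j⁻¹ by group,
      er, en]
    simp only [c]
    group
  · have hhL : h ∈ S.L i := by
      rw [show h = (a * S.n i * b)⁻¹ * k by rw [e, inv_mul_cancel_left]]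
      exact mul_mem (inv_mem (mul_mem (mul_mem (S.X_L i ha) (S.n_L i)) (S.X_L i hb))) hk
    have hT := S.TT_of_mem_L i hh hhL
    obtain ⟨j, hj, y', hy', x', hx', ej⟩ :=
      cellc h hT (h⁻¹ * b * h * a) (mul_mem (S.T_inv (S.T_X i) hh hb) ha)
    exact ⟨j * a⁻¹, mul_mem hj (inv_mem (S.X_L i ha)), y', hy', x', hx', by rw [← ej, e]; group⟩

end Setup

end Cfsg.Agent.Lib.ReeGauss50
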