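import Cfsg.Agent.Lib.ReeGauss50.TitsData
import Cfsg.Agent.Lib.SylowFix92.TitsBasic
import Cfsg.Agent.Lib.TwistedF4Two.Tits

/-!
Every non-trivial element of the Tits group lying in one of four cosets of the unipotent subgroup is
a product of two conjugates of an element of order five: descent along the series of U by conjugation.
-/

set_option autoImplicit false
set_option maxRecDepth 100000
set_option linter.unusedSectionVars false

open Cfsg.Lie
open scoped MatrixGroups

namespace Cfsg.Agent.Lib.ReeGauss50.TitsCert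

open Cfsg.Agent.Lib.TwistedF4Two Mat Bruhat Cells Main
open Cfsg.Agent.Lib.LAEven56.TitsWords Cfsg.Agent.Lib.SylowFix92.Tits
open TitsData

/-- The element of order five. -/
def w5 : List ℕ := [1, 2, 5, 1]

/-- An odd element centralising it. -/
def wc : List ℕ := winv [2, 3, 1, 5, 2, 0, 1, 3, 4, 1, 2, 5, 0] ++ [2]

/-- The starting elements of the four cells. -/
def start : ℕ → List ℕ
  | 0 => []
  | 1 => sword [0]
  | 2 => sword [1]
  | _ => sword [0, 1]

/-- The check of a tree. -/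
def chk (st : List ℕ) : ℕ → List ℕ → Tree → Bool
  | k, P, .odd => Nat.beq k 12 && decide (P.countP isA % 2 = 1)
  | k, P, .triv => Nat.beq k 12 && same (st ++ hword P) []
  | k, P, .wit u v => Nat.beq k 12 && !par u && !par v &&
      same (st ++ hword P) (flat (u ++ w5 ++ winv u ++ (v ++ w5 ++ winv v))) &&
      same (flat (u ++ winv u)) [] && same (flat (v ++ winv v)) []
  | k, P, .merge c z t => decide (k < 12) && c.all (fun x => decide (x < 12)) &&
      z.all (fun x => decide (k < x ∧ x < 12)) &&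
      same (hword c ++ (st ++ hword P)) (st ++ hword P ++ (hw k ++ hword z) ++ hword c) &&
      chk st (k + 1) P t
  | k, P, .split t t' => decide (k < 12) && chk st (k + 1) P t && chk st (k + 1) (P ++ [k]) t'

theorem chk0 : chk (start 0) 0 [] tree0 = true := by decide +kernel

theorem chk1 : chk (start 1) 0 [] tree1 = true := by decide +kernel

theorem chk2 : chk (start 2) 0 [] tree2 = true := by decide +kernel

theorem chk3 : chk (start 3) 0 [] tree3 = true := by decide +kernel

/-- The fixed data. -/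
def baseCert : Bool :=
  same (flat (wc ++ w5)) (flat (w5 ++ wc)) && par wc && !par w5 && same (flat (wpow w5 5)) [] &&
    (List.range 12).all fun a => (tail12 (a + 1)).all fun b =>
      ((Data.serConj.getD a []).getD b []).all fun x => decide (b ≤ x)

theorem baseCert_true : baseCert = true := by decide +kernel

theorem tail_norm {a : ℕ} (ha : a < 12) (m : ℕ) : ∀ r ∈ UG (tail12 m), hE a * r * (hE a)⁻¹ ∈ UG (tail12 m) := by
  refine conj_closure ?_
  rintro g ⟨b, hb, rfl⟩
  have hb' := mem_tail.1 hb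
  rcases lt_or_ge a b with hab | hab
  · have hc := List.all_eq_true.1 serCert_true a (List.mem_range.2 ha)
    simp only [Bool.and_eq_true, List.all_eq_true, decide_eq_true_eq] at hc
    obtain ⟨e, hL⟩ := hc.2 b (mem_tail.2 ⟨hb'.1, hab⟩)
    have hn := baseCert_true
    simp only [baseCert, Bool.and_eq_true, List.all_eq_true, decide_eq_true_eq] at hn
    have e' := el_eq e
    rw [el_append, el_append, el_hword] at e'
    have e'' : hE a * hE b * (hE a)⁻¹ = hP ((Data.serConj.getD a []).getD b []) := mul_inv_eq_iff_eq_mul.2 e'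
    rw [e'']
    exact hP_mem fun x hx => mem_tail.2 ⟨(hL x hx).2,
      le_trans hb'.2 (hn.2 a (List.mem_range.2 ha) b (mem_tail.2 ⟨hb'.1, hab⟩) x hx)⟩
  · have h1 : hE a ∈ UG (tail12 m) := hE_mem (mem_tail.2 ⟨ha, le_trans hb'.2 hab⟩)
    exact mul_mem (mul_mem h1 (hE_mem hb)) (inv_mem h1)

theorem norm_of_gens {H : Type*} [Group H] [Finite H] {S : Set H} {R : Subgroup H}
    (h : ∀ a ∈ S, ∀ r ∈ R, a * r * a⁻¹ ∈ R) {c : H} (hc : c ∈ Subgroup.closure S) {r : H} (hr : r ∈ R) :
    c * r * c⁻¹ ∈ R ∧ c⁻¹ * r * c ∈ R := by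
  induction hc using Subgroup.closure_induction generalizing r with
  | mem a ha =>
    refine ⟨h a ha r hr, ?_⟩
    let f : ↥R → ↥R := fun x => ⟨a * x.1 * a⁻¹, h a ha x.1 x.2⟩
    have hf : Function.Injective f := fun x y e =>
      Subtype.ext (mul_left_cancel (mul_right_cancel (congrArg Subtype.val e)))
    obtain ⟨x, hx⟩ := Finite.injective_iff_surjective.1 hf ⟨r, hr⟩
    have e : a * x.1 * a⁻¹ = r := congrArg Subtype.val hx
    rw [show a⁻¹ * r * a = x.1 by rw [← e]; group]
    exact x.2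
  | one => simp [hr]
  | mul x y _ _ ihx ihy =>
    exact ⟨by rw [show x * y * r * (x * y)⁻¹ = x * (y * r * y⁻¹) * x⁻¹ by group]; exact (ihx (ihy hr).1).1,
      by rw [show (x * y)⁻¹ * r * (x * y) = y⁻¹ * (x⁻¹ * r * x) * y by group]; exact (ihy (ihx hr).2).2⟩
  | inv x _ ih => exact ⟨by simpa using (ih hr).2, by simpa using (ih hr).1⟩

theorem U12_norm {c : GL chevF4.Idx (ZMod 2)} (hc : c ∈ U12) (m : ℕ) :
    ∀ r ∈ UG (tail12 m), c * r * c⁻¹ ∈ UG (tail12 m) ∧ c⁻¹ * r * c ∈ UG (tail12 m) := by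
  intro r hr
  refine norm_of_gens ?_ hc hr
  rintro _ ⟨a, ha, rfl⟩
  exact tail_norm (List.mem_range.1 ha) m

/-- The element of order five in the matrices. -/
noncomputable def X5 : GL chevF4.Idx (ZMod 2) := W w5

/-- An element of even parity is trivial or a product of two conjugates. -/
def Good (g : GL chevF4.Idx (ZMod 2)) : Prop :=
  phi g = 1 → g = 1 ∨ ∃ u v : GL chevF4.Idx (ZMod 2), u ∈ G2F ∧ v ∈ G2F ∧ phi u = 1 ∧ phi v = 1 ∧
    g = (u * X5 * u⁻¹) * (v * X5 * v⁻¹)

theorem phi_cases {a : GL chevF4.Idx (ZMod 2)} (ha : a ∈ G2F) : phi a = 1 ∨ phi a = alpha := by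
  have h : phi a ∈ (⊤ : Subgroup (Abelianization ↥G2F)) := Subgroup.mem_top _
  rw [← Cfsg.Agent.Lib.TwistedF4Two.Tits.zpowers_eq_top] at h
  obtain ⟨z, hz⟩ := Subgroup.mem_zpowers_iff.1 h
  have h2 : alpha ^ (2 : ℤ) = 1 := by rw [zpow_two]; exact alpha_sq
  have hA : phi (hE 1) = alpha := by rw [phi_hE' 1 (by norm_num)]; rfl
  rw [hA] at hz
  rcases Int.even_or_odd' z with ⟨n, rfl | rfl⟩
  · exact Or.inl (by rw [← hz, zpow_mul, h2, one_zpow])
  · exact Or.inr (by rw [← hz, zpow_add, zpow_mul, h2, one_zpow, one_mul, zpow_one])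

theorem fusion {a : GL chevF4.Idx (ZMod 2)} (ha : a ∈ G2F) :
    ∃ b ∈ G2F, phi b = 1 ∧ a * X5 * a⁻¹ = b * X5 * b⁻¹ := by
  rcases phi_cases ha with h | h
  · exact ⟨a, ha, h, rfl⟩
  have hn := baseCert_true
  simp only [baseCert, Bool.and_eq_true, Bool.not_eq_true'] at hn
  obtain ⟨⟨⟨⟨e, hp⟩, -⟩, -⟩, -⟩ := hn
  have e' : W wc * X5 = X5 * W wc := by rw [X5, ← W_append, ← W_append]; exact el_eq e
  refine ⟨a * W wc, mul_mem ha (W_mem _), ?_, ?_⟩
  · show ab G2F (a * W wc) = 1
    rw [ab_mul ha (W_mem _)]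
    show phi a * phi (W wc) = 1
    rw [h, phi_W, hp, if_pos rfl, alpha_sq]
  · calc a * X5 * a⁻¹ = a * (X5 * W wc) * (W wc)⁻¹ * a⁻¹ := by group
      _ = _ := by rw [← e']; group

theorem Good.conj {g k : GL chevF4.Idx (ZMod 2)} (hg : g ∈ G2F) (hk : k ∈ G2F) (h : Good g) :
    Good (k * g * k⁻¹) := by
  intro hphi
  rw [show phi (k * g * k⁻¹) = phi g from ab_conj hk hg] at hphi
  rcases h hphi with rfl | ⟨u, v, hu, hv, -, -, rfl⟩
  · exact Or.inl (by group)
  obtain ⟨u', hu', hpu, eu⟩ := fusion (mul_mem hk hu)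
  obtain ⟨v', hv', hpv, ev⟩ := fusion (mul_mem hk hv)
  exact Or.inr ⟨u', v', hu', hv', hpu, hpv, by rw [← eu, ← ev]; group⟩

theorem W_inv {u : List ℕ} (h : same (flat (u ++ winv u)) [] = true) : W (winv u) = (W u)⁻¹ :=
  eq_inv_of_mul_eq_one_right (by rw [← W_append]; exact (el_eq h).trans el_nil)

theorem hP_append (P L : List ℕ) : hP (P ++ L) = hP P * hP L := by simp [hP]

theorem of_chk {st : List ℕ} (hst : el st ∈ G2F) (hstp : phi (el st) = 1) :
    ∀ (t : Tree) (k : ℕ) (P : List ℕ), (∀ x ∈ P, x < 12) → chk st k P t = true →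
      ∀ y ∈ UG (tail12 k), Good (el st * hP P * y) := by
  intro t
  induction t with
  | odd =>
    intro k P hP' h y hy
    simp only [chk, Bool.and_eq_true, decide_eq_true_eq] at h
    obtain rfl := Nat.eq_of_beq_eq_true h.1
    intro hphi
    exfalso
    have hy1 : y = 1 := by
      have : UG (tail12 12) = ⊥ := (Subgroup.closure_eq_bot_iff).2 (by
        rintro g ⟨b, hb, -⟩; have := mem_tail.1 hb; omega)
      rwa [this, Subgroup.mem_bot] at hy
    rw [hy1, mul_one, show phi (el st * hP P) = phi (el st) * phi (hP P) from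
      ab_mul hst (mem_G2F_of_U12 (hP_mem12 hP')), hstp, one_mul, phi_hP P hP'] at hphi
    obtain ⟨n, hn⟩ : ∃ n, P.countP isA = 2 * n + 1 := ⟨P.countP isA / 2, by omega⟩
    rw [hn, pow_succ, pow_mul, pow_two, alpha_sq, one_pow, one_mul] at hphi
    have h' : Subgroup.zpowers alpha = (⊥ : Subgroup (Abelianization ↥G2F)) := by
      rw [hphi, Subgroup.zpowers_one_eq_bot]
    rw [show alpha = phi (hE 1) by rw [phi_hE' 1 (by norm_num)]; rfl,
      Cfsg.Agent.Lib.TwistedF4Two.Tits.zpowers_eq_top] at h'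
    refine Parity.commutator_ne_top ?_
    rw [eq_top_iff]
    intro g _
    have hb : Abelianization.of g ∈ (⊥ : Subgroup (Abelianization ↥G2F)) := h' ▸ Subgroup.mem_top _
    exact (QuotientGroup.eq_one_iff g).1 (Subgroup.mem_bot.1 hb)
  | triv =>
    intro k P hP' h y hy
    simp only [chk, Bool.and_eq_true] at h
    obtain rfl := Nat.eq_of_beq_eq_true h.1
    intro _
    have hy1 : y = 1 := by
      have : UG (tail12 12) = ⊥ := (Subgroup.closure_eq_bot_iff).2 (by
        rintro g ⟨b, hb, -⟩; have := mem_tail.1 hb; omega)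
      rwa [this, Subgroup.mem_bot] at hy
    left
    rw [hy1, mul_one, ← el_hword, ← el_append, el_eq h.2, el_nil]
  | wit u v =>
    intro k P hP' h y hy
    simp only [chk, Bool.and_eq_true, Bool.not_eq_true'] at h
    obtain ⟨⟨⟨⟨⟨hk, pu⟩, pv⟩, e⟩, iu⟩, iv⟩ := h
    obtain rfl := Nat.eq_of_beq_eq_true hk
    intro _
    have hy1 : y = 1 := by
      have : UG (tail12 12) = ⊥ := (Subgroup.closure_eq_bot_iff).2 (by
        rintro g ⟨b, hb, -⟩; have := mem_tail.1 hb; omega)
      rwa [this, Subgroup.mem_bot] at hy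
    refine Or.inr ⟨W u, W v, W_mem u, W_mem v, ?_, ?_, ?_⟩
    · rw [phi_W, pu]; rfl
    · rw [phi_W, pv]; rfl
    · rw [hy1, mul_one, ← el_hword, ← el_append, el_eq e, ← W_inv iu, ← W_inv iv, X5, ← W_append, ← W_append,
        ← W_append, ← W_append, ← W_append]
      rfl
  | merge c z t ih =>
    intro k P hP' h y hy
    simp only [chk, Bool.and_eq_true, decide_eq_true_eq, List.all_eq_true] at h
    obtain ⟨⟨⟨⟨hk, hc⟩, hz⟩, e⟩, hrec⟩ := h
    obtain ⟨i, hi, r, hr, rfl⟩ := series_step hk hy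
    rcases (show i = 0 ∨ i = 1 by omega) with rfl | rfl
    · rw [pow_zero, one_mul]; exact ih (k + 1) P hP' hrec r hr
    have hcU : hP c ∈ U12 := hP_mem12 hc
    have e' : hP c * (el st * hP P) = el st * hP P * (hE k * hP z) * hP c := by
      have := el_eq e
      simpa only [el_append, el_hword, ← hE.eq_1] using this
    have hzT : hP z ∈ UG (tail12 (k + 1)) := hP_mem fun x hx => mem_tail.2 ⟨(hz x hx).2, (hz x hx).1⟩
    have hr' := ((U12_norm hcU (k + 1)) _ (mul_mem (inv_mem hzT) hr)).2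
    have hg := ih (k + 1) P hP' hrec _ hr'
    have hmem : el st * hP P * ((hP c)⁻¹ * ((hP z)⁻¹ * r) * hP c) ∈ G2F :=
      mul_mem (mul_mem hst (mem_G2F_of_U12 (hP_mem12 hP')))
        (mem_G2F_of_U12 (UG_mono (fun x hx => List.mem_range.2 (mem_tail.1 hx).1) hr'))
    have := hg.conj hmem (mem_G2F_of_U12 hcU)
    rw [pow_one]
    rwa [show hP c * (el st * hP P * ((hP c)⁻¹ * ((hP z)⁻¹ * r) * hP c)) * (hP c)⁻¹ =
      hP c * (el st * hP P) * (hP c)⁻¹ * ((hP z)⁻¹ * r) by group, e',
      show el st * hP P * (hE k * hP z) * hP c * (hP c)⁻¹ * ((hP z)⁻¹ * r) = el st * hP P * (hE k * r) by group]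
      at this
  | split t t' ih ih' =>
    intro k P hP' h y hy
    simp only [chk, Bool.and_eq_true, decide_eq_true_eq] at h
    obtain ⟨⟨hk, h1⟩, h2⟩ := h
    obtain ⟨i, hi, r, hr, rfl⟩ := series_step hk hy
    rcases (show i = 0 ∨ i = 1 by omega) with rfl | rfl
    · rw [pow_zero, one_mul]; exact ih (k + 1) P hP' h1 r hr
    · have := ih' (k + 1) (P ++ [k]) (fun x hx => by
        rcases List.mem_append.1 hx with hx | hx
        · exact hP' x hx
        · rw [List.mem_singleton.1 hx]; exact hk) h2 r hr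
      rwa [hP_append, show hP [k] = hE k by simp [hP], ← mul_assoc, mul_assoc _ (hE k) r, ← pow_one (hE k)] at this

/-- The four cells. -/
theorem cell_good : ∀ j < 4, ∀ u ∈ U12, Good (el (start j) * u) := by
  intro j hj u hu
  have hu' : u ∈ UG (tail12 0) := UG_mono (fun k hk => mem_tail.2 ⟨List.mem_range.1 hk, Nat.zero_le _⟩) hu
  have hs : ∀ L : List ℕ, phi (el (sword L)) = 1 := by
    intro L
    induction L with
    | nil => exact ab_one _
    | cons i L ih =>
      rw [show sword (i :: L) = sw i ++ sword L from rfl, el_append]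
      show ab G2F (sE i * el (sword L)) = 1
      rw [ab_mul (sE_mem i) (el_sword_mem L)]
      show phi (sE i) * phi (el (sword L)) = 1
      rw [ih, mul_one, ← val_S i, phi_val]
  have key : ∀ (L : List ℕ) (t : Tree), chk (sword L) 0 [] t = true → Good (el (sword L) * u) := fun L t h => by
    have := of_chk (el_sword_mem L) (hs L) t 0 [] (by simp) h u hu'
    rwa [show hP [] = 1 from rfl, mul_one] at this
  rcases (show j = 0 ∨ j = 1 ∨ j = 2 ∨ j = 3 by omega) with rfl | rfl | rfl | rfl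
  · exact key [] tree0 chk0
  · exact key [0] tree1 chk1
  · exact key [1] tree2 chk2
  · exact key [0, 1] tree3 chk3

end Cfsg.Agent.Lib.ReeGauss50.TitsCert
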