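import Cfsg.Agent.Lib.ReeGauss50.Concrete
import Cfsg.Agent.Lib.ReeGauss50.TitsCert

/-!
The Tits group: every non-trivial element is a product of two conjugates of an element of order five.
-/

set_option autoImplicit false
set_option maxRecDepth 100000
set_option linter.unusedSectionVars false

open Cfsg.Lie
open scoped MatrixGroups

namespace Cfsg.Agent.Lib.ReeGauss50.Tits

open Cfsg.Agent.Lib.ChevStructure Cfsg.Agent.Lib.LieTwisted.Twist Cfsg.Agent.Lib.LieTwisted.Twist.F4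
open Cfsg.Agent.Lib.TwMult Cfsg.Agent.Lib.TwMult.F4
open Cfsg.Agent.Lib.TwistedF4Two Cfsg.Agent.Lib.TwistedF4Two.Mat
open Cfsg.Agent.Lib.TwistedF4Two.Bruhat Cfsg.Agent.Lib.TwistedF4Two.Main
open Cfsg.Agent.Lib.ReeGauss50.TitsCert

theorem th2 : Th (RingEquiv.refl (ZMod 2)) 1 := by
  refine ⟨inferInstance, fun t => (pow_one t).symm, ?_⟩
  intro t
  revert t
  decide

theorem hS0 : LieTwisted.Suzuki.IsSzField (ZMod 2) 0 := ⟨rfl⟩

/-- The group. -/
noncomputable abbrev T2 := tw th2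

theorem tor_eq_one {t : ↥T2.W} (ht : t ∈ tor T2) : t = 1 := by
  have h := Concrete.card_tor th2
  rw [show Fintype.card (ZMod 2) = 2 from rfl] at h
  haveI : Finite ↥(tor T2) := Nat.finite_of_card_ne_zero (by rw [h]; decide)
  have : Subsingleton ↥(tor T2) := Finite.card_le_one_iff_subsingleton.1 (le_of_eq h)
  exact congrArg Subtype.val (Subsingleton.elim (⟨t, ht⟩ : ↥(tor T2)) 1)

theorem posU_eq : C.US (ZMod 2) C.Pos ⊓ T2.W = U12 := by
  refine (Subgroup.eq_of_le_of_card_ge (le_inf ?_ ?_) (le_of_eq ?_)).symm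
  · exact U12_le_pos
  · exact U12_le
  · rw [T2.card_posU, Parity.card_U12]
    rfl

theorem mem_U12 {u : ↥T2.W} (hu : u ∈ uS T2 C.Pos) : (u : GL chevF4.Idx (ZMod 2)) ∈ U12 := by
  rw [← posU_eq]
  exact Subgroup.mem_inf.2 ⟨(mem_uS T2).1 hu, u.2⟩

/-- The certificate of the reflections and of the middle. -/
def linkCert : Bool :=
  same [33, 24, 14, 23, 33, 24] (sword [0]) && same [27, 25, 28, 19, 17, 27, 25, 30] (sword [1]) &&
    same (hw 0 ++ sword [1]) (sword [1] ++ hword [5])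

theorem linkCert_true : linkCert = true := by decide +kernel

theorem nn0_val : ((Concrete.nn th2 0 : ↥T2.W) : GL chevF4.Idx (ZMod 2)) = sE 0 := by
  have h := linkCert_true
  simp only [linkCert, Bool.and_eq_true] at h
  refine (wprod0_eq th2).trans ?_
  rw [show sE 0 = el (sword [0]) by simp [sE, sword], ← el_eq h.1.1]
  simp [el, gP, R, Core.XN, mul_assoc, show chevF4.nroots = 48 from rfl]
  rfl

theorem nn1_val : ((Concrete.nn th2 1 : ↥T2.W) : GL chevF4.Idx (ZMod 2)) = sE 1 := by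
  have h := linkCert_true
  simp only [linkCert, Bool.and_eq_true] at h
  refine (wprod1_eq th2).trans ?_
  rw [show sE 1 = el (sword [1]) by simp [sE, sword], ← el_eq h.1.2]
  have h2 : (1 : ZMod 2) + 1 = 0 := by decide
  simp [el, gB, R, Core.XN, mul_assoc, C.X_zero, h2, show chevF4.nroots = 48 from rfl]
  rfl

theorem split0 {u : GL chevF4.Idx (ZMod 2)} (hu : u ∈ U12) :
    ∃ i < 2, ∃ r ∈ UG (rI 0), u = hE 0 ^ i * r ∧ sE 0 * r⁻¹ * sE 0 ∈ U12 := by
  have hc := List.all_eq_true.1 rankCert_true 0 (List.mem_range.2 (by norm_num))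
  simp only [Bool.and_eq_true, List.all_eq_true, Bool.or_eq_true, List.contains_iff_mem] at hc
  obtain ⟨⟨⟨⟨h1, h2⟩, h3⟩, h4⟩, -⟩ := hc
  have han : hE (aI 0) ^ oI 0 = 1 := by rw [hE, ← el_rep, el_eq h1, el_nil]
  have haR : ∀ r ∈ UG (rI 0), hE (aI 0) * r * (hE (aI 0))⁻¹ ∈ UG (rI 0) := by
    refine conj_closure ?_
    rintro g ⟨b, hb, rfl⟩
    obtain ⟨t, ht, rfl⟩ := List.getElem_of_mem hb
    obtain ⟨⟨⟨e, hL⟩, -⟩, -⟩ := h4 t (List.mem_range.2 ht)
    rw [← List.getElem_eq_getD (h := ht)] at e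
    have e' := el_eq e
    rw [el_append, el_append, el_hword] at e'
    have e'' : hE (aI 0) * hE (rI 0)[t] * (hE (aI 0))⁻¹ = hP ((Data.radA.getD 0 []).getD t []) :=
      mul_inv_eq_iff_eq_mul.2 e'
    rw [e'']
    exact hP_mem hL
  have hsR : ∀ r ∈ UG (rI 0), sE 0 * r * (sE 0)⁻¹ ∈ UG (rI 0) := by
    refine conj_closure ?_
    rintro g ⟨b, hb, rfl⟩
    obtain ⟨t, ht, rfl⟩ := List.getElem_of_mem hb
    obtain ⟨⟨-, e⟩, hL⟩ := h4 t (List.mem_range.2 ht)
    rw [← List.getElem_eq_getD (h := ht)] at e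
    have e' := el_eq e
    rw [el_append, el_append, el_hword] at e'
    have e'' : sE 0 * hE (rI 0)[t] * (sE 0)⁻¹ = hP ((Data.radS.getD 0 []).getD t []) :=
      mul_inv_eq_iff_eq_mul.2 e'
    rw [e'']
    exact hP_mem hL
  have hle : U12 ≤ Subgroup.zpowers (hE (aI 0)) ⊔ UG (rI 0) := by
    refine (Subgroup.closure_le _).2 ?_
    rintro g ⟨k, hk, rfl⟩
    rcases h3 k hk with (h | h) | ⟨⟨h, h'⟩, -⟩
    · exact Subgroup.mem_sup_right (hE_mem h)
    · rw [Nat.eq_of_beq_eq_true h]; exact Subgroup.mem_sup_left (Subgroup.mem_zpowers _)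
    · exact absurd (Nat.eq_of_beq_eq_true h) (by norm_num)
  obtain ⟨i, hi, r, hr, e⟩ := Bruhat.split (show 0 < oI 0 by decide) (han ▸ one_mem _) haR (hle hu)
  refine ⟨i, hi, r, hr, e, ?_⟩
  have hss : (sE 0)⁻¹ = sE 0 := inv_eq_of_mul_eq_one_left (by rw [sE, ← el_append, el_eq h2, el_nil])
  have := hsR r⁻¹ (inv_mem hr)
  rw [hss] at this
  exact UG_mono (by decide) this

/-- All elements are good. -/
theorem good_all {g : GL chevF4.Idx (ZMod 2)} (hg : g ∈ Bruhat.G2F) : Good g := by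
  obtain ⟨k, p₀, p₁, e, h₀, h₁⟩ := Concrete.cells' th2 hS0 ⟨g, hg⟩
  set kk : GL chevF4.Idx (ZMod 2) := (k : GL chevF4.Idx (ZMod 2))
  suffices h : Good ((p₀ : GL chevF4.Idx (ZMod 2)) * p₁) by
    have := h.conj (k := kk⁻¹) (mul_mem p₀.2 p₁.2) (inv_mem k.2)
    rw [show (p₀ : GL chevF4.Idx (ZMod 2)) * p₁ = kk * g * kk⁻¹ from (congrArg Subtype.val e).symm,
      show kk⁻¹ * (kk * g * kk⁻¹) * kk⁻¹⁻¹ = g by group] at this
    exact this
  -- rotate a double coset of U to a coset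
  have rot : ∀ j < 4, ∀ u ∈ U12, ∀ u' ∈ U12, Good (u * el (start j) * u') := fun j hj u hu u' hu' => by
    have hm : el (start j) * (u' * u) ∈ Bruhat.G2F := by
      refine mul_mem ?_ (U12_le (mul_mem hu' hu))
      rcases (show j = 0 ∨ j = 1 ∨ j = 2 ∨ j = 3 by omega) with rfl | rfl | rfl | rfl
      · exact one_mem _
      all_goals exact el_sword_mem _
    have := (cell_good j hj _ (mul_mem hu' hu)).conj hm (U12_le hu)
    rwa [show u * (el (start j) * (u' * u)) * u⁻¹ = u * el (start j) * u' by group] at this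
  have s0 : sE 0 = el (start 1) := by simp [sE, start, sword]
  have s1 : sE 1 = el (start 2) := by simp [sE, start, sword]
  have s01 : el (start 3) = sE 0 * sE 1 := by simp [sE, start, sword, el_append]
  have v0 := nn0_val
  have v1 := nn1_val
  rcases h₀ with ⟨t, ht, u, hu, rfl⟩ | ⟨t, ht, u, hu, t', ht', u', hu', rfl⟩ <;>
    rcases h₁ with ⟨a, ha, b, hb, rfl⟩ | ⟨a, ha, b, hb, a', ha', b', hb', rfl⟩
  · simp only [tor_eq_one ht, tor_eq_one ha, one_mul]
    have := rot 0 (by norm_num) _ (mem_U12 hu) _ (mem_U12 hb)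
    rwa [show start 0 = [] from rfl, el_nil, mul_one] at this
  · simp only [tor_eq_one ht, tor_eq_one ha, tor_eq_one ha', one_mul, Subgroup.coe_mul, v1, s1]
    have := rot 2 (by norm_num) _ (mul_mem (mem_U12 hu) (mem_U12 hb)) _ (mem_U12 hb')
    simpa [mul_assoc] using this
  · simp only [tor_eq_one ht, tor_eq_one ha, tor_eq_one ht', one_mul, Subgroup.coe_mul, v0, s0]
    have := rot 1 (by norm_num) _ (mem_U12 hu) _ (mul_mem (mem_U12 hu') (mem_U12 hb))
    simpa [mul_assoc] using this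
  · simp only [tor_eq_one ht, tor_eq_one ha, tor_eq_one ht', tor_eq_one ha', one_mul, Subgroup.coe_mul, v0, v1]
    set x : GL chevF4.Idx (ZMod 2) := (u' : GL chevF4.Idx (ZMod 2)) * b with hx
    obtain ⟨i, hi, r, hr, er, hrs⟩ := split0 (inv_mem (mul_mem (mem_U12 hu') (mem_U12 hb)))
    have ex : x = r⁻¹ * (hE 0 ^ i)⁻¹ := by rw [← mul_inv_rev, ← er, inv_inv]
    have hl := linkCert_true
    simp only [linkCert, Bool.and_eq_true] at hl
    have ec : hE 0 * sE 1 = sE 1 * hE 5 := by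
      have := el_eq hl.2
      rwa [el_append, el_append, el_hword, show hP [5] = hE 5 by simp [hP],
        show el (sword [1]) = sE 1 by simp [sE, sword]] at this
    have h5 : ((sE 1)⁻¹ * (hE 0 ^ i)⁻¹ * sE 1) ∈ U12 := by
      have h6 : (sE 1)⁻¹ * hE 0 * sE 1 = hE 5 := by rw [mul_assoc, ec, inv_mul_cancel_left]
      rw [show (sE 1)⁻¹ * (hE 0 ^ i)⁻¹ * sE 1 = (((sE 1)⁻¹ * hE 0 * (sE 1)⁻¹⁻¹) ^ i)⁻¹ by
        rw [conj_pow, inv_inv]; group, inv_inv, h6]
      exact inv_mem (pow_mem (hE_mem (by decide)) _)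
    have hsq : sE 0 * sE 0 = 1 := by
      have hc := List.all_eq_true.1 rankCert_true 0 (List.mem_range.2 (by norm_num))
      simp only [Bool.and_eq_true] at hc
      rw [sE, ← el_append, el_eq hc.1.1.1.2, el_nil]
    have := rot 3 (by norm_num) _ (mul_mem (mem_U12 hu) hrs) _ (mul_mem h5 (mem_U12 hb'))
    rw [s01, show (u : GL chevF4.Idx (ZMod 2)) * (sE 0 * r⁻¹ * sE 0) * (sE 0 * sE 1) *
        ((sE 1)⁻¹ * (hE 0 ^ i)⁻¹ * sE 1 * b') =
      (u : GL chevF4.Idx (ZMod 2)) * (sE 0 * r⁻¹) * (sE 0 * sE 0) * (hE 0 ^ i)⁻¹ * (sE 1 * b') by group,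
      hsq, mul_one] at this
    rw [show (u : GL chevF4.Idx (ZMod 2)) * sE 0 * (u' : GL chevF4.Idx (ZMod 2)) * ((b : GL chevF4.Idx (ZMod 2)) * sE 1 * b') =
      (u : GL chevF4.Idx (ZMod 2)) * (sE 0 * x) * (sE 1 * b') by simp only [x]; group, ex]
    rwa [show (u : GL chevF4.Idx (ZMod 2)) * (sE 0 * (r⁻¹ * (hE 0 ^ i)⁻¹)) * (sE 1 * b') =
      (u : GL chevF4.Idx (ZMod 2)) * (sE 0 * r⁻¹) * (hE 0 ^ i)⁻¹ * (sE 1 * b') by group]

/-- Every non-trivial element of the Tits group is a product of two conjugates of one element of odd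
order. -/
theorem two_conj : ∃ x : TitsGroup, Odd (orderOf x) ∧
    ∀ g : TitsGroup, g ≠ 1 → ∃ u v : TitsGroup, g = (u * x * u⁻¹) * (v * x * v⁻¹) := by
  have hb := TitsCert.baseCert_true
  simp only [TitsCert.baseCert, Bool.and_eq_true, Bool.not_eq_true'] at hb
  obtain ⟨⟨⟨-, hp⟩, h5⟩, -⟩ := hb
  refine ⟨LAEven56.TitsWords.E w5 hp, ?_, fun g hg => ?_⟩
  · refine (show Odd 5 by decide).of_dvd_nat (orderOf_dvd_of_pow_eq_one (LAEven56.TitsWords.val_injective ?_))
    rw [map_pow, map_one, LAEven56.TitsWords.val_E, ← LAEven56.TitsWords.W_wpow]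
    exact (el_eq h5).trans el_nil
  rcases good_all (g := LAEven56.TitsWords.val g) g.1.2 (SylowFix92.Tits.phi_val g) with
    h | ⟨u, v, hu, hv, pu, pv, e⟩
  · exact absurd (LAEven56.TitsWords.val_injective (h.trans (map_one _).symm)) hg
  obtain ⟨u', rfl⟩ := SylowFix92.Tits.lift hu pu
  obtain ⟨v', rfl⟩ := SylowFix92.Tits.lift hv pv
  refine ⟨u', v', LAEven56.TitsWords.val_injective ?_⟩
  rw [e, map_mul, map_mul, map_mul, map_mul, map_mul, map_inv, map_inv, LAEven56.TitsWords.val_E]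
  rfl

end Cfsg.Agent.Lib.ReeGauss50.Tits
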