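import Mathlib.Init
import Mathlib.Data.Nat.Notation

/-! The conjugation trees of the cells of 2F4(2): witnesses found by machine search, checked in the kernel. -/

set_option autoImplicit false
set_option maxRecDepth 100000

namespace Cfsg.Agent.Lib.ReeGauss50.TitsData

/-- A tree of conjugation witnesses. -/
inductive Tree where
  | odd
  | triv
  | wit (u v : List ℕ)
  | merge (c z : List ℕ) (t : Tree)
  | split (t t' : Tree)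

/-- The tree of cell 0. -/
def tree0 : Tree :=
 .split
 (.split
 (.split
 (.split
 (.split
 (.split
 (.split
 (.split
 (.split
 (.split
 (.split
 (.split
 (.triv)
 (.wit [1,0,2,2] [5,2,0,4,3,1,0]))
 (.merge [0] []
 (.wit [] [3,4,0,3,2,0,4,3,0])))
 (.merge [1] []
 (.merge [3] []
 (.wit [4,3,0,1] [0,3,2,0,4,3,0,1]))))
 (.merge [1] [11]
 (.merge [2] []
 (.merge [4] []
 (.wit [] [1,5,2,0,3,4,0,3,2,0,1])))))
 (.merge [1] [9,10]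
 (.merge [2] [10,11]
 (.split
 (.merge [5] []
 (.wit [4,3] [5,2,0,3,2,0,4,3,0]))
 (.merge [0] []
 (.wit [3,2] [3,4,0,2,2,0]))))))
 (.merge [0] []
 (.merge [3] []
 (.merge [4] []
 (.merge [5] []
 (.split
 (.odd)
 (.odd)))))))
 (.split
 (.split
 (.merge [0] [9]
 (.merge [3] [10]
 (.merge [6] []
 (.merge [7] []
 (.wit [0,2,5,0,1] [2,3,0,4,3,0,1])))))
 (.merge [0] [9]
 (.merge [2] [10,11]
 (.merge [0,1] [11]
 (.merge [2,3] []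
 (.wit [3,2,0,1] [0,5,2,0,1]))))))
 (.merge [0] [8,9]
 (.merge [3] [9,10]
 (.merge [4] []
 (.merge [5] []
 (.merge [7] []
 (.odd))))))))
 (.merge [1] []
 (.split
 (.merge [0] [8,11]
 (.split
 (.merge [6] []
 (.split
 (.merge [8] []
 (.odd))
 (.merge [8] []
 (.odd))))
 (.merge [6] []
 (.merge [2] []
 (.merge [4] []
 (.odd))))))
 (.split
 (.merge [0] [11]
 (.merge [4] []
 (.merge [0,2,3] []
 (.merge [0,3] []
 (.wit [3,3,0,1] [2,5,0,4,3,0,1])))))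
 (.merge [0] [11]
 (.merge [2] [10,11]
 (.merge [2,4] [11]
 (.merge [0,3] []
 (.wit [2,2,0,1] [0,2,5,0,1])))))))))
 (.merge [1] [6,8,9]
 (.merge [2] [10,11]
 (.split
 (.split
 (.merge [6] []
 (.merge [5] [10,11]
 (.split
 (.merge [9] []
 (.odd))
 (.merge [0] []
 (.odd)))))
 (.merge [6] []
 (.merge [5] [10]
 (.split
 (.merge [9] []
 (.odd))
 (.merge [0] []
 (.odd))))))
 (.merge [0] []
 (.merge [3] []
 (.merge [4] []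
 (.split
 (.merge [4,5] []
 (.wit [1] [0,2,2,1,0,2,2,1,0]))
 (.merge [4,5] []
 (.wit [4,3,0,1] [5,2,0,2,2,0,1]))))))))))
 (.split
 (.merge [0] [5,6,7,8,9,10]
 (.merge [3] [9,11]
 (.split
 (.split
 (.split
 (.merge [7] [10,11]
 (.merge [8] []
 (.split
 (.wit [0] [4,3,0,2,2,0,2,3,0,3,2,0])
 (.wit [1,2,3,0,2,3] [1,3,2,0,3,2]))))
 (.merge [1] [11]
 (.merge [2] []
 (.merge [4] []
 (.wit [0] [0,1,3,2,0,4,3,0,1])))))
 (.merge [1] [9,10]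
 (.merge [2] [10,11]
 (.merge [8] []
 (.merge [5] []
 (.wit [2,2] [0,1,0]))))))
 (.split
 (.split
 (.merge [4] []
 (.merge [5] []
 (.merge [4,5,7] []
 (.odd))))
 (.merge [1] [11]
 (.merge [2] []
 (.split
 (.odd)
 (.odd)))))
 (.merge [1] [9,10]
 (.merge [2] [10,11]
 (.merge [2,4] [11]
 (.merge [2,4,8] []
 (.odd)))))))))
 (.merge [0] [5,6,7]
 (.merge [0,1] [7,10]
 (.split
 (.merge [0,1,2] [8,9,11]
 (.merge [6] []
 (.merge [5] [10,11]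
 (.merge [8] []
 (.merge [5,7] []
 (.odd))))))
 (.split
 (.merge [0,1,2] [9,11]
 (.merge [4] []
 (.merge [0,1,2,6] [11]
 (.merge [4,5] []
 (.wit [3,3,1,3,3,0] [0,3,4,1,0,3,2,0,1,3,2,0])))))
 (.merge [0,1,3] [9,10,11]
 (.merge [0,1,2] [10,11]
 (.merge [0,1,3,6] []
 (.merge [0,1,3,5,6,7] []
 (.wit [0,1,2,5,0] [4,3,1,2,5,0,1,5,2])))))))))))
 (.split
 (.merge [0] [5,6,11]
 (.merge [3] [5,6,10]
 (.merge [4] []
 (.split
 (.split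
 (.merge [7] [10,11]
 (.merge [8] [10,11]
 (.merge [9] []
 (.split
 (.odd)
 (.odd)))))
 (.merge [1] [9,10]
 (.merge [2] [10,11]
 (.merge [1,2,7,8] []
 (.merge [5] []
 (.odd))))))
 (.split
 (.merge [7] [10,11]
 (.merge [8] [10,11]
 (.merge [5] []
 (.split
 (.wit [0] [0,2,2,1,0,2,3,0,2,3,0,1])
 (.wit [1,0,2,2,0,2,2,1,0] [1,0])))))
 (.merge [1] [9,10]
 (.merge [2] [10,11]
 (.merge [5] [11]
 (.merge [1,2,5,7,8] []
 (.wit [3,2,0,2,3,1,5,2] [1,2,3,0,1,5,2,0]))))))))))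
 (.merge [0] [4,5,7,8,10,11]
 (.merge [3] [6,9,11]
 (.merge [4] []
 (.split
 (.split
 (.merge [7] [9,10]
 (.merge [8] [11]
 (.merge [9] []
 (.split
 (.odd)
 (.odd)))))
 (.merge [1] [9,10]
 (.merge [2] [10,11]
 (.merge [2,8] []
 (.merge [5] []
 (.odd))))))
 (.split
 (.merge [7] [9,10]
 (.merge [8] [11]
 (.merge [5] []
 (.split
 (.wit [0,2,3,0,2,3,0] [2,3,0,2,3])
 (.wit [0,2,2] [1,0,2,2,1,0,2,2,0,1])))))
 (.merge [1] [9,10]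
 (.merge [2] [10,11]
 (.merge [5] [11]
 (.merge [2,5,8] []
 (.wit [1,3,2] [4,3,0,4,3,0,1,5,2,1,3,3]))))))))))))
 (.split
 (.split
 (.merge [1] [4,5,8,9,10]
 (.merge [2] [5,6,7,8,10,11]
 (.split
 (.split
 (.merge [4] [8]
 (.merge [5] [9]
 (.merge [4,5,6] []
 (.split
 (.merge [10] []
 (.wit [1,0,4,3] [3,3,1,3,3,1,3,3,1,0]))
 (.merge [0] []
 (.wit [3,4,0,1] [5,2,0,3,2,0,1]))))))
 (.merge [0] []
 (.merge [3] []
 (.merge [0,3,4] [11]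
 (.merge [0,4,5] []
 (.merge [10] []
 (.odd)))))))
 (.split
 (.merge [4] [8,11]
 (.merge [0] [9]
 (.merge [3] [10]
 (.split
 (.merge [3,4,5,6] []
 (.wit [3,2,0,1] [2,2,0,2,2,0,1]))
 (.merge [0,5] []
 (.wit [1] [4,3,0,2,2,0,4,3,0,1]))))))
 (.merge [0] [8,9]
 (.merge [3] [9,10]
 (.split
 (.split
 (.merge [0,4] []
 (.odd))
 (.merge [3,5] []
 (.odd)))
 (.split
 (.merge [0,4] []
 (.odd))
 (.merge [0,3,6] []
 (.odd))))))))))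
 (.merge [1] [4,8,9,10,11]
 (.merge [0] [5,6,7,8,9,10]
 (.merge [3] [9,11]
 (.split
 (.merge [4] [8,9,11]
 (.merge [5] [9,10]
 (.merge [4,5,6] []
 (.merge [4,5,6,7] [11]
 (.merge [4,5,6,7,8] []
 (.wit [3,2,0,1,4,3,0,3,2,0] [2,3,1,0,5,2,0]))))))
 (.merge [0,2] []
 (.merge [0,2,4] [9]
 (.merge [7] [10,11]
 (.merge [0,2,4,5] []
 (.merge [0,2,4,5,8] []
 (.odd)))))))))))
 (.split
 (.merge [0] [5,6,11]
 (.merge [2] [6,7,9,10,11]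
 (.merge [2,3] [7,11]
 (.split
 (.merge [6] [8,10,11]
 (.merge [5] [11]
 (.merge [2,3,4] [11]
 (.merge [5,7] []
 (.merge [2,3,4,5,7,8] []
 (.odd))))))
 (.merge [0,1] []
 (.merge [2,3,4] [10]
 (.merge [0,1,2,3,4,5,6] [11]
 (.merge [2,3,4,5] []
 (.merge [0,1,5,6,7] []
 (.wit [0,1,0,3,2] [4,3,1,0,2,5,0,1,2,3,0]))))))))))
 (.merge [0] [4,5,7,8,10,11]
 (.merge [0,1] [5,6,7,8,9,10]
 (.merge [4] [7,10]
 (.split
 (.merge [0,1,3] [8,11]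
 (.merge [5] [10,11]
 (.merge [5,7] [11]
 (.merge [9] []
 (.merge [0,1,3,6,7,8] []
 (.odd))))))
 (.merge [0,1,2] []
 (.merge [5] [11]
 (.merge [0,1,3] []
 (.merge [2,3,6] []
 (.merge [2,3,5,6,7,8] []
 (.wit [1,5,2,0,1,3,4] [2,5,0,2,3,1,3,3,0]))))))))))))

/-- The tree of cell 1. -/
def tree1 : Tree :=
 .split
 (.merge [1] [2,3,4,6,8,9]
 (.merge [2] [7,9,10,11]
 (.split
 (.merge [1,3] [6,10]
 (.merge [1,3,4] [8,9,10,11]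
 (.split
 (.split
 (.split
 (.merge [1,3,4,5] [10,11]
 (.merge [1,3,5,6] [11]
 (.split
 (.wit [0,2,3,1,2,5] [3,3,0,1,2,3])
 (.wit [] [0,3,2,0,4,3,0,2,2,0,3,2]))))
 (.merge [4,6] [11]
 (.merge [1,3,4,5] [11]
 (.split
 (.wit [1,0,2,5,0,1] [2,2,0,2,2,0])
 (.wit [2,2] [1,3,4,0,2,2,0,3,2,0,1])))))
 (.merge [1,3,4,5] []
 (.merge [4,6] []
 (.merge [2,5,7,8] []
 (.merge [5,8] []
 (.wit [0,3,4] [3,4,1,0,5,2,1,0,4,3,0,1,5,2]))))))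
 (.split
 (.merge [1,3,4,5] [9,10,11]
 (.merge [2,7] [10,11]
 (.merge [5,8] []
 (.merge [4,5,6,8] []
 (.odd)))))
 (.split
 (.split
 (.merge [1,3,5,6] [11]
 (.split
 (.odd)
 (.odd)))
 (.merge [1,3,4,5] [11]
 (.split
 (.odd)
 (.odd))))
 (.merge [1,3,4,5] []
 (.merge [2,7] []
 (.merge [4,6] []
 (.odd)))))))))
 (.merge [4] [6,8,9,10,11]
 (.merge [5] [8]
 (.split
 (.split
 (.merge [4,6] [9]
 (.merge [5,8] [10,11]
 (.merge [1,2,3,4,6,7] [11]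
 (.merge [9] []
 (.odd)))))
 (.merge [1,3] [9,10]
 (.merge [1,3,4,6] []
 (.merge [1,3,4,5,6,8] []
 (.merge [9] []
 (.odd))))))
 (.split
 (.merge [1,3] [9,11]
 (.merge [1,2,3,7] []
 (.merge [10] [11]
 (.merge [1,2,3,5,7,8] []
 (.wit [1,0,2,3,0] [2,2,0,1,2,5,1,5,2,0,1,3,3])))))
 (.merge [4,6] []
 (.merge [5,8] []
 (.merge [1,3] [11]
 (.merge [9] []
 (.wit [0,1,2,3] [3,2,0,1,3,4,0,1,4,3,1,2,3,0]))))))))))))
 (.merge [1] [2,3,4,6,8,9]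
 (.merge [2] [7,9,10,11]
 (.merge [1,3] [5,6,8]
 (.merge [4] [6,7,9,10]
 (.merge [5] [8]
 (.split
 (.split
 (.merge [4,6] [9]
 (.split
 (.merge [2,4,5,7] []
 (.merge [2,6,7,8] []
 (.wit [5,2,0,1,0,3,2,0] [0,1,5,2,0,1,0,3,2,0])))
 (.merge [2,4,5,7] []
 (.merge [2,6,7,8] []
 (.wit [4,3,0,2,2,0] [4,3,1,2,3,1,2,5,1,5,2])))))
 (.merge [4,6] [9]
 (.merge [2,4,5,7] []
 (.merge [4,5,6,8] [11]
 (.merge [4,5,6,8,11] []
 (.wit [0,3,4,1,0] [5,2,1,2,3,0,1,3,2,1,0,2,2]))))))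
 (.split
 (.merge [4,6] []
 (.merge [2,4,5,7] []
 (.merge [10] [11]
 (.merge [2,6,7,8] []
 (.odd)))))
 (.merge [4,6] []
 (.merge [4,5,6,8] [11]
 (.merge [2,4,5,7] []
 (.merge [2,4,5,7,10] []
 (.odd))))))))))))

/-- The tree of cell 2. -/
def tree2 : Tree :=
 .merge [0] [5,8,9]
 (.split
 (.split
 (.merge [3] [4,7]
 (.split
 (.split
 (.split
 (.merge [0,3,4,5] [10]
 (.merge [0,5] [9]
 (.split
 (.split
 (.split
 (.wit [3,2,0] [0,2,5,0,2,3,0,3,2,0])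
 (.wit [0,2,5,0,4,3] [5,2,0,3,4,0,4,3]))
 (.merge [0,3,4,5,7] []
 (.wit [0,3,4,0] [0,3,2,0,2,2,0,1,0])))
 (.split
 (.merge [3,4] []
 (.wit [3,2,0,2,2,0,2,2] [3,2,0,2,2,1,0]))
 (.merge [3,4] []
 (.wit [3,4,1,0] [3,2,0,1,3,2,0,1]))))))
 (.merge [0,5] [8,9,10,11]
 (.merge [3,4] [9,11]
 (.split
 (.split
 (.merge [3,4,8] []
 (.odd))
 (.merge [3,4,8] []
 (.odd)))
 (.split
 (.merge [0,3,4,5,8] []
 (.odd))
 (.split
 (.odd)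
 (.odd)))))))
 (.split
 (.merge [0,3,4,5] [8]
 (.merge [0,3,4,5,7] [10]
 (.merge [3,4] [10]
 (.merge [6] []
 (.merge [7,10] []
 (.wit [1,0,2,3] [1,2,5,0,2,3,1,0,2,5,0,2,3]))))))
 (.merge [0,5] [10,11]
 (.merge [3,4] [10,11]
 (.merge [0,3,4,5] [10]
 (.merge [6] []
 (.merge [0,5,7] []
 (.odd))))))))
 (.split
 (.split
 (.merge [0,5] [9]
 (.merge [0,3,4,5] [10,11]
 (.merge [6] []
 (.merge [0,5,6,7] []
 (.merge [8,9] []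
 (.odd))))))
 (.merge [0,3,4,5] [9,11]
 (.merge [3,4] [9,11]
 (.merge [0,5] [10,11]
 (.merge [0,5,6] [11]
 (.merge [3,4,8] []
 (.wit [4,3,1,3,2,0,1,0,3,2] [1,0,3,4])))))))
 (.split
 (.merge [0,5] [8,11]
 (.merge [0,5,7] [10,11]
 (.merge [3,4] [10]
 (.split
 (.merge [3,4,6] []
 (.odd))
 (.merge [0,3,4,5] []
 (.odd))))))
 (.merge [0,3,4,5] [8,9,10]
 (.merge [3,4] [10,11]
 (.merge [6] [10]
 (.split
 (.merge [0,5,6,8] []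
 (.wit [2,2] [0,3,2,1,2,3,0,1,5,2,1,0]))
 (.merge [0,3,4,5,7,8] []
 (.wit [3,3,1,5,2,0] [2,2,0,2,3,1,0,3,2]))))))))))
 (.merge [3] [4,7]
 (.merge [0,5] [5,6,7,11]
 (.merge [3,4] [9,11]
 (.split
 (.merge [7] [10]
 (.merge [8] [9]
 (.merge [7,10] [10,11]
 (.merge [8,9] []
 (.split
 (.wit [2,2,1] [2,2,1])
 (.wit [0,3,2,0,1] [2,5,0,3,2,0,1]))))))
 (.merge [7] [10]
 (.merge [8] [9]
 (.merge [7,10] [10,11]
 (.merge [8,9] []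
 (.split
 (.odd)
 (.odd)))))))))))
 (.split
 (.merge [3] [4,5,7,9,10,11]
 (.merge [3,4] [6,9,10]
 (.split
 (.split
 (.merge [7] [10]
 (.merge [8] [9,10]
 (.merge [0,4,5] [11]
 (.split
 (.split
 (.odd)
 (.odd))
 (.merge [0,4,5,8,9] []
 (.odd))))))
 (.merge [0,4,5] [10]
 (.merge [8] [9,10]
 (.merge [8,9] [11]
 (.split
 (.split
 (.wit [2,3,0,2,3,0,2,3,0] [0,2,3])
 (.wit [2,3,0,2,2,0,1,0] [3,4,0,4,3,0]))
 (.merge [0,4,5,7] []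
 (.wit [2,3,1,2,5] [0,4,3,0,1,5,2,1,3,3])))))))
 (.split
 (.merge [7] [10]
 (.merge [0,4,5] [11]
 (.merge [0,4,5,8] [10,11]
 (.merge [6] []
 (.merge [0,4,5,6,9] []
 (.odd))))))
 (.merge [0,4,5] [8,9,10]
 (.merge [0,4,5,7] [9]
 (.merge [0,4,5,7,9] [10,11]
 (.merge [6] []
 (.merge [0,4,5,6,7,8] []
 (.wit [1,3,3] [0,4,3,2,2,0,1,2,3,1,2,5,1,0]))))))))))
 (.merge [3] [4,5,7,9,10,11]
 (.merge [3,4] [5,6,11]
 (.split
 (.split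
 (.merge [0,3,5] [9,11]
 (.merge [8] [9,10]
 (.merge [0,3,5,7] [10,11]
 (.split
 (.split
 (.odd)
 (.odd))
 (.merge [0,3,5,7,8,9] []
 (.odd))))))
 (.merge [7] [10]
 (.merge [0,3,5] [9,10]
 (.merge [0,3,5,9] [10,11]
 (.split
 (.split
 (.wit [3,3,0] [0,2,5,1,0,2,3,0,2,3,0,1])
 (.wit [1,0,2,2,0,1,2,5,0] [3,3,1,0]))
 (.merge [0,3,5,8] []
 (.wit [5,2,0,1,5,2,0,1,3,4] [0,1,5,2])))))))
 (.split
 (.merge [0,3,5] [8,9,10,11]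
 (.merge [0,3,5,7] [9,11]
 (.merge [0,3,5,7,9] []
 (.merge [6] []
 (.merge [0,3,5,6,10] []
 (.odd))))))
 (.merge [7] [10]
 (.merge [8] [9,10]
 (.merge [0,3,5] []
 (.merge [6] []
 (.merge [7,8,10] []
 (.wit [1,0,4,3] [2,5,0,1,2,3,0,2,2,0,1,5,2]))))))))))))

/-- The tree of cell 3. -/
def tree3 : Tree :=
 .merge [8] [8]
 (.merge [1] [2,4,5]
 (.merge [2] [10]
 (.merge [6] [6,11]
 (.merge [4] [6,9,10]
 (.merge [5] [9]
 (.split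
 (.merge [11] [11]
 (.merge [9] [9]
 (.split
 (.merge [10] [11]
 (.split
 (.wit [1,5,2,1,0,4,3,0,3,2] [4,3,0,1,2,3,0,2,2])
 (.wit [5,2,1,3,3] [1,0,2,2,0,2,3,0])))
 (.merge [10] [11]
 (.split
 (.wit [0,1,0,3,2,0] [1,4,3,0,1,5,2,0,1,3,2,0])
 (.wit [5,2,0,1,2,5,1,0] [0,1,4,3,1,2,3]))))))
 (.merge [11] [11]
 (.merge [9] [9]
 (.split
 (.merge [10] [11]
 (.split
 (.odd)
 (.odd)))
 (.merge [10] [11]
 (.split
 (.odd)
 (.odd))))))))))))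

end Cfsg.Agent.Lib.ReeGauss50.TitsData
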