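import Cfsg.Agent.Lib.TwMult.F4Iso
import Cfsg.Agent.Lib.TwMult.F4Phi

/-!
The torus of ²F₄(q): kernels of the root characters and the eight directions of positive roots.
-/

set_option autoImplicit false
set_option maxRecDepth 100000
set_option linter.unusedSectionVars false

namespace Cfsg.Agent.Lib.ReeGauss50.Concrete

open Cfsg.Lie
open Cfsg.Agent.Lib.ChevStructure Cfsg.Agent.Lib.LieTwisted.Twist Cfsg.Agent.Lib.LieTwisted.Twist.F4
open Cfsg.Agent.Lib.TwMult Cfsg.Agent.Lib.TwMult.F4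
open scoped MatrixGroups

universe u

/-- The roots of an orbit and their negatives. -/
def Jpm (i : Fin 2) : Set (Rt chevF4) := {r | r ∈ Jr i ∨ r.rev ∈ Jr i}

/-- The direction of an orbit. -/
def dI : Fin 2 → ℕ := ![1, 0]

theorem dI_spec : ∀ i : Fin 2, dI i < 8 ∧ ∀ r : Rt chevF4,
    (24 ≤ r.val ∧ dd (pidx r) = dI i) ↔ r ∈ Jr i := by
  decide +kernel

/-- The words moving the directions into the orbits. -/
def dW : Fin 8 → List (Fin 2) × Fin 2 :=
  ![([], 1), ([], 0), ([0], 1), ([0, 1], 1), ([1], 0), ([0, 1, 0], 1), ([1, 0], 0), ([1, 0, 1], 0)]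

/-- The words moving an orbit to the commuting one. -/
def oW : Fin 2 → List (Fin 2) := ![[1, 0, 1], [0, 1, 0]]

/-- The word in the nodes. -/
def nodes (L : List (Fin 2)) : List (Fin chevF4.rank) := L.flatMap Jw

theorem dW_spec : ∀ B : Fin 8, ∀ r : Rt chevF4, 24 ≤ r.val → dd (pidx r) = B.val →
    ∃ r' ∈ Jr (dW B).2, Data.F4.fast.actW ((nodes (dW B).1).map Fin.val) r.val = r'.val := by
  decide +kernel

theorem oW_spec : ∀ i : Fin 2, ∀ r : Rt chevF4, (r ∈ Jr i → 24 ≤ Data.F4.fast.actW ((nodes (oW i)).map Fin.val) r.val)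
    ∧ (r.rev ∈ Jr i → Data.F4.fast.actW ((nodes (oW i)).map Fin.val) r.val < 24) := by
  decide +kernel

theorem oW_com : ∀ i : Fin 2, ∀ r : Rt chevF4, (r ∈ Jr i ∨ r.rev ∈ Jr i) → ∀ s : Rt chevF4,
    (s ∈ Jr i ∨ s.rev ∈ Jr i) → ∀ r' : Rt chevF4, r'.val = Data.F4.fast.actW ((nodes (oW i)).map Fin.val) r.val →
      Com2 r' s := by
  unfold Com2
  decide +kernel

theorem X1Y0_com : ∀ r ∈ Jr 1, ∀ s : Rt chevF4, s.rev ∈ Jr 0 → Com2 r s := by
  unfold Com2
  decide +kernel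

theorem Jr_disj : ∀ r ∈ Jr 0, r ∉ Jr 1 := by decide +kernel

theorem Jw_neg : ∀ i : Fin 2, ∀ r : Rt chevF4, r ∈ Jr i →
    Data.F4.fast.actW ((Jw i).map Fin.val) r.val = r.rev.val := by
  decide +kernel

theorem other_dir : ∀ B : Fin 8, ∃ B' : Fin 8, B'.val ≠ B.val := by decide

theorem has_root : ∀ B : Fin 8, ∃ r : Rt chevF4, 24 ≤ r.val ∧ dd (pidx r) = B.val := by decide +kernel

theorem dd_pidx_lt : ∀ r : Rt chevF4, dd (pidx r) < 8 := by decide +kernel

theorem chr_pi_mul {K : Type u} [Field K] (χ χ' : Fin chevF4.rank → Kˣ) (r : Rt chevF4) :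
    C.chr K (χ * χ') r = C.chr K χ r * C.chr K χ' r := by
  simp only [Core.chr, Pi.mul_apply, mul_zpow, Finset.prod_mul_distrib]

variable {K : Type u} [Field K] [Fintype K] {θ : K ≃+* K} {e : ℕ} (F : Th θ e)

include F

theorem card_tor : Nat.card ↥(tor (tw F)) = (Fintype.card K - 1) * (Fintype.card K - 1) := by
  have h : Nat.card ↥(tor (tw F)) = Nat.card ↥(chevF4.diagonalSubgroup K ⊓ (tw F).W) := by
    rw [tor, ← Subgroup.inf_subgroupOf_right]
    exact Nat.card_congr (Subgroup.subgroupOfEquivOfLe inf_le_right).toEquiv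
  rw [h, show Nat.card ↥(chevF4.diagonalSubgroup K ⊓ (tw F).W) = _ from card_diag F, Nat.card_units,
    Nat.card_eq_fintype_card, sq]

/-- The root character. -/
def Fixes (t : ↥(tw F).W) (r : Rt chevF4) : Prop :=
  ∀ a : K, (t : GL chevF4.Idx K) * C.X K r a * (t : GL chevF4.Idx K)⁻¹ = C.X K r a

theorem coe_param {t : ↥(tw F).W} (ht : t ∈ tor (tw F)) :
    ∃ χ : Fin chevF4.rank → Kˣ, (t : GL chevF4.Idx K) = hχ χ := exists_hχ ((mem_tor (tw F)).1 ht)

theorem fixes_iff {t : ↥(tw F).W} {χ : Fin chevF4.rank → Kˣ} (e : (t : GL chevF4.Idx K) = hχ χ)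
    (r : Rt chevF4) : Fixes F t r ↔ C.chr K χ r = 1 := by
  constructor
  · intro h
    have h1 := h 1
    rw [e, hχ_X, mul_one] at h1
    exact Units.ext (X_inj h1)
  · intro h a
    rw [e, hχ_X, h, Units.val_one, one_mul]

/-- The separating element inside the twisted group. -/
noncomputable def hW' (B : Fin 8) (w : Kˣ) : ↥(tw F).W := ⟨hB θ B.val w, hB_mem F B.val w⟩

theorem hW'_tor (B : Fin 8) (w : Kˣ) : hW' F B w ∈ tor (tw F) := (mem_tor (tw F)).2 (hχ_mem_diagonal _)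

/-- Two parameters give the torus. -/
theorem exists_two {B B' : Fin 8} (h : B'.val ≠ B.val) {t : ↥(tw F).W} (ht : t ∈ tor (tw F)) :
    ∃ a b : Kˣ, t = hW' F B a * hW' F B' b := by
  classical
  have hinj : Function.Injective (fun p : Kˣ × Kˣ => (⟨hW' F B p.1 * hW' F B' p.2,
      mul_mem (hW'_tor F B p.1) (hW'_tor F B' p.2)⟩ : ↥(tor (tw F)))) := by
    intro p p' e
    have e' := congrArg (fun x : ↥(tor (tw F)) => ((x : ↥(tw F).W) : GL chevF4.Idx K)) e
    simp only [hW', Subgroup.coe_mul, hB, hχ_mul] at e'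
    have e2 : ∀ r : Rt chevF4, pv θ (ev B.val r) p.1 * pv θ (ev B'.val r) p.2 =
        pv θ (ev B.val r) p'.1 * pv θ (ev B'.val r) p'.2 := fun r => by
      rw [← chr_hB F B.val, ← chr_hB F B'.val, ← chr_hB F B.val, ← chr_hB F B'.val, ← chr_pi_mul, ← chr_pi_mul,
        hχ_inj e']
    have pinv : ∀ (a : ℤ × ℤ) (w : Kˣ), pv θ a w⁻¹ = (pv θ a w)⁻¹ := fun a w =>
      eq_inv_of_mul_eq_one_left (by rw [← pv_mul, inv_mul_cancel]; simp [pv])
    obtain ⟨r, hr, hd⟩ := has_root B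
    obtain ⟨r', hr', hd'⟩ := has_root B'
    have h2 : p.2 = p'.2 := by
      have h0 := e2 r
      have hz : ev B.val r = (0, 0) := by rw [← hd]; exact ev_zero r hr
      rw [hz, show pv θ ((0 : ℤ), (0 : ℤ)) p.1 = 1 by simp [pv], show pv θ ((0 : ℤ), (0 : ℤ)) p'.1 = 1 by simp [pv],
        one_mul, one_mul] at h0
      refine mul_inv_eq_one.1 (pv_eq_one F (ev_good' F B'.2 hr (by rw [hd]; exact h.symm)) ?_)
      rw [pv_mul, pinv, h0, mul_inv_cancel]
    have h1 : p.1 = p'.1 := by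
      have h0 := e2 r'
      rw [h2, mul_left_inj] at h0
      refine mul_inv_eq_one.1 (pv_eq_one F (ev_good' F B.2 hr' (by rw [hd']; exact h)) ?_)
      rw [pv_mul, pinv, h0, mul_inv_cancel]
    exact Prod.ext h1 h2
  obtain ⟨p, hp⟩ := (hinj.bijective_of_nat_card_le (le_of_eq (by
    rw [card_tor, Nat.card_prod, Nat.card_units, Nat.card_eq_fintype_card]))).2 ⟨t, ht⟩
  exact ⟨p.1, p.2, (congrArg Subtype.val hp).symm⟩

theorem hW'_one (B : Fin 8) : hW' F B (1 : Kˣ) = 1 := by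
  refine Subtype.ext ?_
  show hB θ B.val (1 : Kˣ) = 1
  rw [hB]
  simp only [pv, one_zpow, map_one, mul_one]
  exact hχ_one' F

theorem chr_hW' (B : Fin 8) (w : Kˣ) (r : Rt chevF4) (a : K) :
    (hW' F B w : GL chevF4.Idx K) * C.X K r a * (hW' F B w : GL chevF4.Idx K)⁻¹ =
      C.X K r ((pv θ (ev B.val r) w : K) * a) := hB_X F B.val w r a

/-- The kernel of a root character. -/
theorem exists_hW_of_fixes {t : ↥(tw F).W} (ht : t ∈ tor (tw F)) {r : Rt chevF4} (hr : 24 ≤ r.val)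
    (hfix : Fixes F t r) : ∃ w : Kˣ, t = hW' F ⟨dd (pidx r), dd_pidx_lt r⟩ w := by
  set B : Fin 8 := ⟨dd (pidx r), dd_pidx_lt r⟩ with hB
  obtain ⟨B', hB'⟩ := other_dir B
  obtain ⟨a, b, rfl⟩ := exists_two F hB' ht
  have h := hfix 1
  have e : (pv θ (ev B.val r) a : K) * ((pv θ (ev B'.val r) b : K) * 1) = 1 := by
    refine X_inj ((?_ : _ = _).trans h)
    rw [← chr_hW' F B a r, ← chr_hW' F B' b r, Subgroup.coe_mul]
    group
  have hz : ev B.val r = (0, 0) := ev_zero r hr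
  rw [hz, show pv θ ((0 : ℤ), (0 : ℤ)) a = 1 by simp [pv], Units.val_one, one_mul, mul_one] at e
  have hb : b = 1 := pv_eq_one F (ev_good' F B'.2 hr (fun h' => hB' h'.symm)) (Units.ext e)
  exact ⟨a, by rw [hb, hW'_one, mul_one]⟩

/-- A non-trivial element of a kernel fixes only its own direction. -/
theorem dir_of_fixes {B : Fin 8} {w : Kˣ} (hw : w ≠ 1) {r : Rt chevF4} (hr : 24 ≤ r.val)
    (hfix : Fixes F (hW' F B w) r) : dd (pidx r) = B.val := by
  by_contra hne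
  have h := hfix 1
  rw [chr_hW' F, mul_one] at h
  exact hw (pv_eq_one F (ev_good' F B.2 hr hne) (Units.ext (X_inj h)))

/-- The unipotent elements commuting with a torus element. -/
theorem centralized_mem {t u : ↥(tw F).W} (ht : t ∈ tor (tw F)) (hu : u ∈ uS (tw F) C.Pos) (hc : Commute t u) :
    u ∈ uS (tw F) {r | 24 ≤ r.val ∧ Fixes F t r} := by
  obtain ⟨f, hf⟩ := (Cfsg.Agent.Lib.LieTwisted.Twist.F4.comm).exists_posWord K ((mem_uS (tw F)).1 hu)
  obtain ⟨χ, hχe⟩ := coe_param F ht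
  have hconj : (t : GL chevF4.Idx K) * C.wordX K C.posL f * (t : GL chevF4.Idx K)⁻¹ =
      C.wordX K C.posL (fun r => (C.chr K χ r : K) * f r) := by
    show MulAut.conj (t : GL chevF4.Idx K) ((C.posL).map fun r => C.X K r (f r)).prod = _
    rw [map_list_prod, List.map_map]
    exact congrArg List.prod (List.map_congr_left fun r _ => by
      simp only [Function.comp_apply, MulAut.conj_apply, hχe, hχ_X])
  have hcc : (t : GL chevF4.Idx K) * (u : GL chevF4.Idx K) * (t : GL chevF4.Idx K)⁻¹ = u := by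
    rw [← Subgroup.coe_inv, ← Subgroup.coe_mul, ← Subgroup.coe_mul, hc.eq, mul_inv_cancel_right]
  rw [hf] at hcc
  have h1 := C.wordX_unique K C.posL_sorted (fun r hr => C.mem_posL.1 hr) (hconj.symm.trans hcc)
  refine (mem_uS (tw F)).2 ?_
  rw [hf]
  refine list_prod_mem fun g hg => ?_
  obtain ⟨r, hr, rfl⟩ := List.mem_map.1 hg
  by_cases h0 : f r = 0
  · rw [h0, C.X_zero]; exact one_mem _
  refine C.X_mem_US K (S := {r | 24 ≤ r.val ∧ Fixes F t r}) ⟨(pos_iff24 r).1 (C.mem_posL.1 hr), ?_⟩ _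
  exact (fixes_iff F hχe r).2 (Units.ext ((mul_left_eq_self₀.1 (h1 r hr)).resolve_right h0))

/-- A non-trivial torus element commuting with a non-trivial unipotent element lies in a kernel. -/
theorem exists_dir {t u : ↥(tw F).W} (ht : t ∈ tor (tw F)) (ht1 : t ≠ 1) (hu : u ∈ uS (tw F) C.Pos)
    (hu1 : u ≠ 1) (hc : Commute t u) :
    ∃ B : Fin 8, ∃ w : Kˣ, w ≠ 1 ∧ t = hW' F B w ∧ u ∈ uS (tw F) {r | 24 ≤ r.val ∧ dd (pidx r) = B.val} := by
  have hm := centralized_mem F ht hu hc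
  obtain ⟨r₀, hr₀, hfix⟩ : ∃ r : Rt chevF4, 24 ≤ r.val ∧ Fixes F t r := by
    by_contra hall
    simp only [not_exists, not_and] at hall
    refine hu1 (Subtype.ext ?_)
    have hle : C.US K {r | 24 ≤ r.val ∧ Fixes F t r} ≤ ⊥ := (Subgroup.closure_le _).2 (by
      rintro g ⟨r, hr, -⟩
      exact absurd hr.2 (hall r hr.1))
    exact Subgroup.mem_bot.1 (hle ((mem_uS (tw F)).1 hm))
  obtain ⟨w, hw⟩ := exists_hW_of_fixes F ht hr₀ hfix
  have hw1 : w ≠ 1 := fun h => ht1 (by rw [hw, h, hW'_one])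
  refine ⟨⟨dd (pidx r₀), dd_pidx_lt r₀⟩, w, hw1, hw, (mem_uS (tw F)).2 (C.US_mono K (fun (r : Rt chevF4) (hr : 24 ≤ r.val ∧ Fixes F t r) => (⟨hr.1, ?_⟩ : 24 ≤ r.val ∧ _)) ((mem_uS (tw F)).1 hm))⟩
  have h := hr.2
  rw [hw] at h
  exact dir_of_fixes F hw1 hr.1 h

end Cfsg.Agent.Lib.ReeGauss50.Concrete
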